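import Groth.Agent.IsocLib.Decomp
import Mathlib.FieldTheory.IsAlgClosed.Basic

/-!
Fixed vectors of a semilinear automorphism of a lattice, for `k` algebraically closed.
-/

set_option autoImplicit false
set_option linter.style.haveILetI false
set_option linter.unusedSectionVars false

open scoped Isocrystal Pointwise Polynomial

universe u v w

namespace Groth.Agent.IsocLib

variable {p : ℕ} [hp : Fact p.Prime] {k : Type u} [Field k] [CharP k p] [PerfectRing k p]

lemma coeff_zero_tauW (τ : K(p, k) →+* K(p, k)) [WPres τ] (b : ℤ) (hτ : τ = Isoc.frob p k b)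
    (w : WittVector p k) : (tauW τ w).coeff 0 = (frobeniusEquiv k p ^ b) (w.coeff 0) := by
  have h1 : tauW τ w = (WittVector.frobeniusEquiv p k ^ b) w := alg_inj.1 (by
    rw [← tau_alg, hτ, Isoc.frob_algebraMap])
  rw [h1]
  have key : ∀ (n : ℕ) (w : WittVector p k), ((WittVector.frobeniusEquiv p k ^ n) w).coeff 0 =
      (frobeniusEquiv k p ^ n) (w.coeff 0) := by
    intro n
    induction n with
    | zero => intro w; rfl
    | succ n ih =>
      intro w
      rw [pow_succ', pow_succ']
      show (WittVector.frobenius ((WittVector.frobeniusEquiv p k ^ n) w)).coeff 0 =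
        frobeniusEquiv k p ((frobeniusEquiv k p ^ n) (w.coeff 0))
      rw [WittVector.coeff_frobenius_charP, ih, frobeniusEquiv_def]
  rcases Int.eq_nat_or_neg b with ⟨n, rfl | rfl⟩
  · rw [zpow_natCast, zpow_natCast, key]
  · rw [zpow_neg, zpow_natCast, zpow_neg, zpow_natCast]
    apply (frobeniusEquiv k p ^ n).injective
    show (frobeniusEquiv k p ^ n) _ = (frobeniusEquiv k p ^ n) ((frobeniusEquiv k p ^ n).symm _)
    rw [RingEquiv.apply_symm_apply, ← key]
    show ((WittVector.frobeniusEquiv p k ^ n)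
      ((WittVector.frobeniusEquiv p k ^ n).symm w)).coeff 0 = _
    rw [RingEquiv.apply_symm_apply]

variable [IsAlgClosed k]

section Scalar

variable {ι : Type w} [Fintype ι] (c : ι → k) (ε : ι → ℤ) (hε : Function.Injective ε)

lemma frob_pow_apply (n : ℕ) (x : k) : (frobeniusEquiv k p ^ n) x = x ^ p ^ n := by
  induction n with
  | zero => simp
  | succ n ih =>
    rw [pow_succ']
    show frobeniusEquiv k p ((frobeniusEquiv k p ^ n) x) = _
    rw [frobeniusEquiv_def, ih, ← pow_mul, ← pow_succ]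

lemma frob_zpow_add (a b : ℤ) (x : k) :
    (frobeniusEquiv k p ^ a) ((frobeniusEquiv k p ^ b) x) = (frobeniusEquiv k p ^ (a + b)) x := by
  rw [zpow_add]; rfl

include hε in
/-- Twisted polynomials over `k` have roots. -/
lemma exists_scalar_root (y : k) (i₀ i₁ : ι) (hi₀ : c i₀ ≠ 0) (hi₁ : c i₁ ≠ 0)
    (h : i₀ ≠ i₁ ∨ y ≠ 0) :
    ∃ z, ∑ i, c i * (frobeniusEquiv k p ^ ε i) z = y ∧ z ≠ 0 := by
  classical
  obtain ⟨m, hm, hmin⟩ := (Finset.univ.filter fun i => c i ≠ 0).exists_min_image ε
    ⟨i₀, by simp [hi₀]⟩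
  simp only [Finset.mem_filter, Finset.mem_univ, true_and] at hm hmin
  let e : ι → ℕ := fun i => (ε i - ε m).toNat
  let f : k[X] := ∑ i, Polynomial.C (c i) * Polynomial.X ^ (p ^ e i - 1)
  have hcoef : ∀ j, c j ≠ 0 → f.coeff (p ^ e j - 1) = c j := by
    intro j hj
    simp only [f, Polynomial.finsetSum_coeff, Polynomial.coeff_C_mul, Polynomial.coeff_X_pow]
    rw [Finset.sum_eq_single j]
    · simp
    · intro i _ hij
      rcases eq_or_ne (c i) 0 with h0 | h0
      · rw [h0, zero_mul]
      rw [if_neg, mul_zero]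
      intro he
      refine hij (hε ?_)
      have h1 : p ^ e j = p ^ e i := by
        have := Nat.one_le_pow (e j) p hp.out.pos
        have := Nat.one_le_pow (e i) p hp.out.pos
        omega
      have h2 := Nat.pow_right_injective hp.out.two_le h1
      have := hmin i h0
      have := hmin j hj
      simp only [e] at h2
      omega
    · simp
  have hem : e m = 0 := by simp [e]
  -- pick a root of `X * f - y`
  obtain ⟨z, hz, hz0⟩ : ∃ z, z * f.eval z = y ∧ z ≠ 0 := by
    rcases eq_or_ne y 0 with rfl | hy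
    · have hne : i₀ ≠ i₁ := h.resolve_right (fun h => h rfl)
      obtain ⟨j, hj, hjm⟩ : ∃ j, c j ≠ 0 ∧ j ≠ m := by
        by_cases h0 : i₀ = m
        · exact ⟨i₁, hi₁, fun e => hne (h0.trans e.symm)⟩
        · exact ⟨i₀, hi₀, h0⟩
      have hej : 1 ≤ e j := by
        by_contra h0
        refine hjm (hε ?_)
        have := hmin j hj
        simp only [e] at h0
        omega
      have hdeg : f.degree ≠ 0 := fun hd => by
        have h1 := hcoef j hj
        rw [Polynomial.eq_C_of_degree_eq_zero hd, Polynomial.coeff_C, if_neg] at h1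
        · exact hj h1.symm
        · have := Nat.pow_le_pow_right hp.out.pos hej
          have := hp.out.two_le
          simp at *
          omega
      obtain ⟨z, hz⟩ := IsAlgClosed.exists_root f hdeg
      refine ⟨z, by rw [hz.eq_zero, mul_zero], fun h0 => hm ?_⟩
      subst h0
      have h1 := hcoef m hm
      rw [hem, pow_zero, Nat.sub_self, Polynomial.coeff_zero_eq_eval_zero, hz.eq_zero] at h1
      exact h1.symm
    · have hdeg : (Polynomial.X * f - Polynomial.C y).degree ≠ 0 := fun hd => by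
        have h1 := congrArg (fun q : k[X] => q.coeff (p ^ e m - 1 + 1)) (Polynomial.eq_C_of_degree_eq_zero hd)
        simp [Polynomial.coeff_X_mul, hcoef m hm, Polynomial.coeff_C] at h1
        exact hm h1
      obtain ⟨z, hz⟩ := IsAlgClosed.exists_root _ hdeg
      have hz' : z * f.eval z = y := by
        simpa [sub_eq_zero] using hz.eq_zero
      exact ⟨z, hz', fun h0 => hy (by rw [← hz', h0, zero_mul])⟩
  refine ⟨(frobeniusEquiv k p ^ (-ε m)) z, ?_, (map_ne_zero_iff _ (RingEquiv.injective _)).2 hz0⟩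
  rw [← hz, Polynomial.eval_finsetSum, Finset.mul_sum]
  refine Finset.sum_congr rfl fun i _ => ?_
  rcases eq_or_ne (c i) 0 with h0 | h0
  · simp [h0]
  have he : ε i + -ε m = (e i : ℤ) := by
    have := hmin i h0
    simp only [e]
    omega
  rw [frob_zpow_add, he, zpow_natCast, frob_pow_apply, Polynomial.eval_mul, Polynomial.eval_C,
    Polynomial.eval_pow, Polynomial.eval_X, mul_left_comm, ← pow_succ',
    Nat.sub_add_cancel (Nat.one_le_pow _ _ hp.out.pos)]

end Scalar

variable {τ : K(p, k) →+* K(p, k)} [WPres τ]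
variable {N : Type v} [AddCommGroup N] [Module (WittVector p k) N] [Module K(p, k) N]
  [IsScalarTower (WittVector p k) K(p, k) N] [Module.Finite K(p, k) N]
variable {G : N →ₛₗ[τ] N} {M : Submodule (WittVector p k) N}

lemma smul_mem_pPow_one_of_dvd {w : WittVector p k} (h : (p : WittVector p k) ∣ w) {x : N}
    (hx : x ∈ M) : w • x ∈ Isoc.pPow 1 M := by
  obtain ⟨v, rfl⟩ := h
  rw [mul_smul, smul_eq_alg_smul, map_natCast, ← zpow_one (p : K(p, k))]
  exact smul_mem_pPow (M.smul_mem _ hx)

lemma dvd_iff_coeff_zero {w : WittVector p k} : (p : WittVector p k) ∣ w ↔ w.coeff 0 = 0 := by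
  rw [← Ideal.mem_span_singleton, WittVector.mem_span_p_iff_coeff_zero_eq_zero]

lemma G_mem (hGM : Isoc.latImg G 1 M = M) {x : N} (hx : x ∈ M) : G x ∈ M := by
  have h := apply_mem_latImg G (s := 1) hx
  rwa [hGM] at h

lemma G_mem_p (hGM : Isoc.latImg G 1 M = M) {x : N} (hx : x ∈ Isoc.pPow 1 M) :
    G x ∈ Isoc.pPow 1 M := by
  have h := apply_mem_latImg G (s := 1) hx
  rwa [latImg_pPow, hGM] at h

/-- The cyclic computation modulo `p`: solves `(G - 1) X = ε w`, nontrivially when `ε = 0`. -/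
lemma exists_cyclic (hG : Function.Bijective G) (hM : M.IsLattice K(p, k))
    (hGM : Isoc.latImg G 1 M = M) (b : ℤ) (hb : b ≠ 0) (hτ : τ = Isoc.frob p k b)
    {w : N} (hw : w ∈ M) (hwp : w ∉ Isoc.pPow 1 M) (ε : WittVector p k) :
    ∃ X ∈ M, G X - X - ε • w ∈ Isoc.pPow 1 M ∧ (ε = 0 → X ∉ Isoc.pPow 1 M) := by
  classical
  let V : ℕ → N := fun i => (⇑G)^[i] w
  have hV : ∀ i, V i ∈ M := fun i => by
    induction i with
    | zero => exact hw
    | succ i ih =>
      show (⇑G)^[i + 1] w ∈ M
      rw [Function.iterate_succ_apply']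
      exact G_mem hGM ih
  have hGV : ∀ i, G (V i) = V (i + 1) := fun i => (Function.iterate_succ_apply' _ _ _).symm
  let S : ℕ → Submodule (WittVector p k) N := fun n =>
    Isoc.pPow 1 M ⊔ Submodule.span (WittVector p k) (V '' (Finset.range n : Set ℕ))
  have hSM : ∀ n, S n ≤ M := fun n => sup_le (pPow_le_self zero_le_one M)
    (Submodule.span_le.2 (by rintro _ ⟨i, -, rfl⟩; exact hV i))
  have hSmono : Monotone S := fun m n h => sup_le_sup_left
    (Submodule.span_mono (Set.image_mono (by simpa using h))) _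
  have hex : ∃ m, V m ∈ S m := by
    obtain ⟨j, -, hj⟩ := chain_stabilizes hM S _ le_rfl hSmono le_sup_left (hSM _)
    exact ⟨j, hj.ge (Submodule.mem_sup_right (Submodule.subset_span ⟨j, by simp, rfl⟩))⟩
  obtain ⟨m, hm, hmin⟩ : ∃ m, V m ∈ S m ∧ ∀ i, i < m → V i ∉ S i :=
    ⟨Nat.find hex, Nat.find_spec hex, fun i hi => Nat.find_min hex hi⟩
  obtain ⟨j, rfl⟩ : ∃ j, m = j + 1 := by
    rcases m with _ | j
    · simp [S, V] at hm
      exact absurd hm hwp
    · exact ⟨j, rfl⟩
  obtain ⟨pu, hpu, sp, hsp, he⟩ := Submodule.mem_sup.1 hm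
  obtain ⟨c₀, hc₀⟩ := (Submodule.mem_span_image_finset_iff_exists_fun' (WittVector p k)).1 hsp
  let c : ℕ → WittVector p k := fun i => if i < j + 1 then c₀ i else 0
  have hc : ∑ i ∈ Finset.range (j + 1), c i • V i = sp := by
    rw [← hc₀]
    exact Finset.sum_congr rfl fun i hi => by simp only [c, if_pos (Finset.mem_range.1 hi)]
  have hcm : c (j + 1) = 0 := by simp [c]
  obtain ⟨l, hl, hlc⟩ : ∃ l, l < j + 1 ∧ (c l).coeff 0 ≠ 0 := by
    by_contra h
    push Not at h
    have hVm : V (j + 1) ∈ Isoc.pPow 1 M := by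
      rw [← he, ← hc]
      exact add_mem hpu (Submodule.sum_mem _ fun i hi =>
        smul_mem_pPow_one_of_dvd (dvd_iff_coeff_zero.2 (h i (Finset.mem_range.1 hi))) (hV i))
    have hMp : Isoc.latImg G (j + 1) (Isoc.pPow 1 M) = Isoc.pPow 1 M := by
      rw [latImg_pPow, ← mul_one (j + 1), latImg_mul_eq (r := 0) (by rw [pPow_zero]; exact hGM),
        mul_zero, pPow_zero]
    obtain ⟨y, hy, hye⟩ := (mem_latImg G).1 (hMp.ge hVm)
    exact hwp (iterate_injective G hG (j + 1) hye ▸ hy)
  -- the scalar equation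
  let φ := frobeniusEquiv k p
  let ex : Option (Fin (j + 1)) → ℤ := fun o => o.elim 0 fun t => (((t : ℕ) : ℤ) + 1) * b
  let co : Option (Fin (j + 1)) → k := fun o =>
    o.elim 1 fun t => -(φ ^ (((t : ℕ) : ℤ) * b)) ((c (j - t)).coeff 0)
  have hexi : Function.Injective ex := by
    rintro (_ | s) (_ | t) h
    · rfl
    · exfalso
      have : ((t : ℕ) : ℤ) + 1 = 0 := (mul_eq_zero.1 h.symm).resolve_right hb
      omega
    · exfalso
      have : ((s : ℕ) : ℤ) + 1 = 0 := (mul_eq_zero.1 h).resolve_right hb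
      omega
    · have : ((s : ℕ) : ℤ) + 1 = ((t : ℕ) : ℤ) + 1 := mul_right_cancel₀ hb h
      exact congrArg some (Fin.ext (by omega))
  have hco : co (some ⟨j - l, by omega⟩) ≠ 0 := by
    simp only [co, Option.elim, neg_ne_zero]
    rw [map_ne_zero_iff _ (RingEquiv.injective _), show j - (j - l) = l by omega]
    exact hlc
  obtain ⟨z₀, hz₀, hz₀ne⟩ := exists_scalar_root co ex hexi (-(φ ^ ((j : ℤ) * b)) (ε.coeff 0)) none
    (some ⟨j - l, by omega⟩) (by simp [co]) hco (Or.inl (by simp))
  let z := WittVector.teichmuller p z₀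
  let x : ℕ → WittVector p k := fun i =>
    Nat.rec (tauW τ z * c 0 - ε) (fun i xi => tauW τ xi + c (i + 1) * tauW τ z) i
  have hx0 : x 0 = tauW τ z * c 0 - ε := rfl
  have hxs : ∀ i, x (i + 1) = tauW τ (x i) + c (i + 1) * tauW τ z := fun i => rfl
  have hcl : ∀ i, (x i).coeff 0 = (∑ t ∈ Finset.range (i + 1), (φ ^ ((t : ℤ) * b)) ((c (i - t)).coeff 0) *
      (φ ^ (((t : ℤ) + 1) * b)) z₀) - (φ ^ ((i : ℤ) * b)) (ε.coeff 0) := by
    intro i
    induction i with
    | zero =>
      show WittVector.constantCoeff (tauW τ z * c 0 - ε) = _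
      rw [map_sub, map_mul]
      show (tauW τ z).coeff 0 * _ - _ = _
      rw [coeff_zero_tauW τ b hτ]
      simp [z, φ, mul_comm]
    | succ i ih =>
      show WittVector.constantCoeff (tauW τ (x i) + c (i + 1) * tauW τ z) = _
      rw [map_add, map_mul]
      show (tauW τ (x i)).coeff 0 + _ * (tauW τ z).coeff 0 = _
      rw [coeff_zero_tauW τ b hτ, coeff_zero_tauW τ b hτ, ih, map_sub, map_sum,
        Finset.sum_range_succ' _ (i + 1)]
      simp only [Nat.cast_zero, zero_mul, zero_add, one_mul, Nat.sub_zero, map_mul, frob_zpow_add,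
        zpow_zero, φ, z, WittVector.teichmuller_coeff_zero]
      rw [sub_add_eq_add_sub]
      congr 1
      · congr 1
        refine Finset.sum_congr rfl fun t _ => ?_
        rw [Nat.succ_sub_succ]
        push_cast
        congr 3 <;> ring_nf
      · push_cast
        congr 2
        ring
  have hxj : (p : WittVector p k) ∣ x j - z := by
    rw [dvd_iff_coeff_zero]
    show WittVector.constantCoeff (x j - z) = 0
    rw [map_sub, sub_eq_zero]
    show (x j).coeff 0 = z₀
    rw [Fintype.sum_option] at hz₀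
    simp only [co, ex, Option.elim, one_mul, zpow_zero, RingAut.one_apply, neg_mul,
      Finset.sum_neg_distrib] at hz₀
    rw [hcl, Finset.sum_range fun t => (φ ^ ((t : ℤ) * b)) ((c (j - t)).coeff 0) *
      (φ ^ (((t : ℤ) + 1) * b)) z₀]
    linear_combination -hz₀
  refine ⟨∑ i ∈ Finset.range (j + 1), x i • V i,
    M.sum_mem fun i _ => M.smul_mem _ (hV i), ?_, fun hε0 hX => ?_⟩
  · have key : G (∑ i ∈ Finset.range (j + 1), x i • V i) - ∑ i ∈ Finset.range (j + 1), x i • V i - ε • w =
        tauW τ (x j - z) • V (j + 1) + tauW τ z • pu := by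
      have h0 : G (∑ i ∈ Finset.range (j + 1), x i • V i) - ∑ i ∈ Finset.range (j + 1), x i • V i =
          ∑ i ∈ Finset.range (j + 1), ((x (i + 1) • V (i + 1) - x i • V i) -
            tauW τ z • (c (i + 1) • V (i + 1))) := by
        rw [map_sum, ← Finset.sum_sub_distrib]
        refine Finset.sum_congr rfl fun i _ => ?_
        rw [smul_eq_alg_smul, LinearMap.map_smulₛₗ, tau_alg, algebraMap_smul, hGV, hxs,
          algebraMap_smul, add_smul, smul_smul, mul_comm (tauW τ z)]
        abel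
      have h1 : ∑ i ∈ Finset.range (j + 1), c (i + 1) • V (i + 1) = sp - c 0 • V 0 := by
        rw [eq_sub_iff_add_eq, ← Finset.sum_range_succ' (fun i => c i • V i),
          Finset.sum_range_succ, hc, hcm, zero_smul, add_zero]
      rw [h0, Finset.sum_sub_distrib, Finset.sum_range_sub (fun i => x i • V i), ← Finset.smul_sum,
        h1, show sp = V (j + 1) - pu from eq_sub_of_add_eq' he, hxs j, hcm, zero_mul, add_zero, hx0,
        map_sub, show w = V 0 from rfl]
      simp only [smul_sub, sub_smul, smul_smul]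
      abel
    rw [key]
    refine add_mem (smul_mem_pPow_one_of_dvd ?_ (hV _)) (Submodule.smul_mem _ _ hpu)
    obtain ⟨v, hv⟩ := hxj
    exact ⟨tauW τ v, by rw [hv, map_mul, map_natCast]⟩
  · -- independence modulo `p`
    have hind : ∀ n, n ≤ j + 1 → ∑ i ∈ Finset.range n, x i • V i ∈ Isoc.pPow 1 M →
        ∀ i < n, (x i).coeff 0 = 0 := by
      intro n
      induction n with
      | zero => intro _ _ i hi; omega
      | succ n ih =>
        intro hn hsum i hi
        rw [Finset.sum_range_succ] at hsum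
        have h0 : (x n).coeff 0 = 0 := by
          by_contra hne
          obtain ⟨uu, huu⟩ := isUnit_iff_coeff_zero.2 hne
          refine hmin n (by omega) ?_
          have h2 : x n • V n ∈ S n := by
            rw [← add_sub_cancel_left (∑ i ∈ Finset.range n, x i • V i) (x n • V n)]
            exact sub_mem (Submodule.mem_sup_left hsum) (Submodule.sum_mem _ fun t ht =>
              Submodule.smul_mem _ _ (Submodule.mem_sup_right (Submodule.subset_span ⟨t, by simpa using ht, rfl⟩)))
          rw [← huu] at h2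
          have h3 := (S n).smul_mem ((uu⁻¹ : (WittVector p k)ˣ) : WittVector p k) h2
          rwa [smul_smul, Units.inv_mul, one_smul] at h3
        rcases Nat.lt_succ_iff_lt_or_eq.1 hi with hi' | rfl
        · refine ih (by omega) ?_ i hi'
          exact (Submodule.add_mem_iff_left _
            (smul_mem_pPow_one_of_dvd (dvd_iff_coeff_zero.2 h0) (hV n))).1 hsum
        · exact h0
    have hxj0 := hind (j + 1) le_rfl hX j (by omega)
    rw [dvd_iff_coeff_zero] at hxj
    have h4 : WittVector.constantCoeff (x j - z) = 0 := hxj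
    rw [map_sub, sub_eq_zero] at h4
    exact hz₀ne ((h4.symm.trans hxj0))

/-- `G - 1` is surjective on the lattice. -/
lemma exists_sub_eq_lattice (hG : Function.Bijective G) (hM : M.IsLattice K(p, k))
    (hGM : Isoc.latImg G 1 M = M) (b : ℤ) (hb : b ≠ 0) (hτ : τ = Isoc.frob p k b)
    {w : N} (hw : w ∈ M) : ∃ v ∈ M, G v - v = w := by
  classical
  have step : ∀ y : M, ∃ v : M, G (v : N) - v - y ∈ Isoc.pPow 1 M := fun y => by
    by_cases hy : (y : N) ∈ Isoc.pPow 1 M
    · exact ⟨0, by simpa using hy⟩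
    · obtain ⟨X, hX, h, -⟩ := exists_cyclic hG hM hGM b hb hτ y.2 hy 1
      exact ⟨⟨X, hX⟩, by simpa using h⟩
  choose g hg using step
  let nx : M → M := fun y => ⟨(p : K(p, k)) ^ (-1 : ℤ) • ((y : N) - (G (g y : N) - g y)),
    mem_pPow.1 (by
      have := neg_mem (hg y)
      rwa [neg_sub] at this)⟩
  have hnx : ∀ y : M, (y : N) - (G (g y : N) - g y) = (p : K(p, k)) ^ (1 : ℤ) • (nx y : N) := fun y => by
    show _ = (p : K(p, k)) ^ (1 : ℤ) • ((p : K(p, k)) ^ (-1 : ℤ) • _)
    rw [smul_smul, ← zpow_add₀ pL_ne_zero, add_neg_cancel, zpow_zero, one_smul]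
  let Y : ℕ → M := fun n => nx^[n] ⟨w, hw⟩
  let A : ℕ → N := fun n => ∑ t ∈ Finset.range n, (p : K(p, k)) ^ (t : ℤ) • (g (Y t) : N)
  have hA : ∀ n : ℕ, w - (G (A n) - A n) = (p : K(p, k)) ^ (n : ℤ) • (Y n : N) := by
    intro n
    induction n with
    | zero => simp [A, Y]
    | succ n ih =>
      have hY : Y (n + 1) = nx (Y n) := Function.iterate_succ_apply' _ _ _
      simp only [A, Finset.sum_range_succ, map_add] at ih ⊢
      rw [LinearMap.map_smulₛₗ, tau_p, hY, Nat.cast_succ, zpow_add₀ pL_ne_zero, ← smul_smul,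
        ← hnx, smul_sub, smul_sub, ← ih]
      abel
  have hAM : ∀ n, A n ∈ M := fun n => M.sum_mem fun t _ =>
    pPow_le_self (Int.natCast_nonneg t) M (smul_mem_pPow (g (Y t)).2)
  obtain ⟨v, hv, hvl⟩ := exists_limit hM A hAM fun n => by
    simp only [A, Finset.sum_range_succ, add_sub_cancel_left]
    exact smul_mem_pPow (g (Y n)).2
  refine ⟨v, hv, (sub_eq_zero.1 (eq_zero_of_forall_mem_pPow hM fun n => ?_))⟩
  have h1 : G v - v - w = (G (v - A n) - (v - A n)) - (w - (G (A n) - A n)) := by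
    rw [map_sub]; abel
  rw [h1, hA]
  refine sub_mem (sub_mem ?_ (hvl n)) (smul_mem_pPow (Y n).2)
  have h := apply_mem_latImg G (s := 1) (hvl n)
  rwa [latImg_pPow, hGM] at h

/-- A semilinear automorphism of a lattice has a nonzero fixed vector. -/
theorem exists_fixed [Nontrivial N] (hG : Function.Bijective G) (hM : M.IsLattice K(p, k))
    (hGM : Isoc.latImg G 1 M = M) (b : ℤ) (hb : b ≠ 0) (hτ : τ = Isoc.frob p k b) :
    ∃ x : N, x ≠ 0 ∧ G x = x := by
  obtain ⟨w, hw, hwp⟩ : ∃ w ∈ M, w ∉ Isoc.pPow 1 M := by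
    by_contra h
    push Not at h
    exact (isOrd_zero hG hM).2 (by rw [latImg_zero, zero_add]; exact h)
  obtain ⟨X, hX, h, hXp⟩ := exists_cyclic hG hM hGM b hb hτ hw hwp 0
  rw [zero_smul, sub_zero] at h
  obtain ⟨v, hv, hve⟩ := exists_sub_eq_lattice hG hM hGM b hb hτ (mem_pPow.1 h)
  refine ⟨X - (p : K(p, k)) ^ (1 : ℤ) • v, fun h0 => hXp rfl ?_, ?_⟩
  · rw [sub_eq_zero.1 h0]
    exact smul_mem_pPow hv
  · rw [map_sub, LinearMap.map_smulₛₗ, tau_p, ← sub_eq_zero,
      show G X - (p : K(p, k)) ^ (1 : ℤ) • G v - (X - (p : K(p, k)) ^ (1 : ℤ) • v) =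
        (G X - X) - (p : K(p, k)) ^ (1 : ℤ) • (G v - v) by rw [smul_sub]; abel,
      hve, smul_smul, ← zpow_add₀ pL_ne_zero, add_neg_cancel, zpow_zero, one_smul, sub_self]

end Groth.Agent.IsocLib
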