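import Groth.Prelude.Def_Isoc
import Mathlib.RingTheory.WittVector.Complete
import Mathlib.FieldTheory.IsAlgClosed.Basic
import Mathlib.LinearAlgebra.Projection

/-!
Twisted polynomials are surjective on `W(k)[1/p]` for `k` algebraically closed; consequences for
isocrystals.
-/

set_option autoImplicit false
set_option linter.style.haveILetI false

open scoped Isocrystal Polynomial

universe u v w

namespace Groth.Agent.IsocLib

variable {p : ℕ} [hp : Fact p.Prime] {k : Type u} [Field k] [CharP k p] [IsAlgClosed k]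

section Witt

variable {ι : Type w} [Fintype ι] (c : ι → WittVector p k) (e : ι → ℕ)

/-- A twisted polynomial on Witt vectors. -/
noncomputable def tpoly : WittVector p k →+ WittVector p k :=
  ∑ i, (AddMonoidHom.mulLeft (c i)).comp
    ((WittVector.frobenius : WittVector p k →+* WittVector p k) ^ e i).toAddMonoidHom

omit [CharP k p] [IsAlgClosed k] in
lemma tpoly_apply (z : WittVector p k) :
    tpoly c e z = ∑ i, c i * ((WittVector.frobenius : WittVector p k →+* WittVector p k) ^ e i) z := by
  simp [tpoly]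

omit [CharP k p] [IsAlgClosed k] in
lemma tpoly_pow_mul (n : ℕ) (z : WittVector p k) :
    tpoly c e ((p : WittVector p k) ^ n * z) = (p : WittVector p k) ^ n * tpoly c e z := by
  simp only [tpoly_apply, map_mul, map_pow, map_natCast, Finset.mul_sum]
  exact Finset.sum_congr rfl fun i _ => by ring

variable (he : Function.Injective e) (hc : ∃ i, (c i).coeff 0 ≠ 0)

include he hc in
lemma exists_root_mod (y : WittVector p k) :
    ∃ z : WittVector p k, (p : WittVector p k) ∣ y - tpoly c e z := by
  classical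
  haveI : PerfectRing k p := PerfectField.toPerfectRing p
  obtain ⟨i₀, hi₀⟩ := hc
  let f : k[X] := ∑ i, Polynomial.C ((c i).coeff 0) * Polynomial.X ^ (p ^ e i) -
    Polynomial.C (y.coeff 0)
  have hne : ∀ i, p ^ e i ≠ 0 := fun i => pow_ne_zero _ hp.out.ne_zero
  have hcoeff : f.coeff (p ^ e i₀) = (c i₀).coeff 0 := by
    simp only [f, Polynomial.coeff_sub, Polynomial.finset_sum_coeff, Polynomial.coeff_C_mul,
      Polynomial.coeff_X_pow, Polynomial.coeff_C, hne i₀, if_false, sub_zero]
    rw [Finset.sum_eq_single i₀]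
    · simp
    · intro i _ hi
      rw [if_neg fun h => hi (he (Nat.pow_right_injective hp.out.two_le h)).symm, mul_zero]
    · simp
  have hdeg : f.degree ≠ 0 := fun h => by
    rw [Polynomial.eq_C_of_degree_eq_zero h, Polynomial.coeff_C, if_neg (hne i₀)] at hcoeff
    exact hi₀ hcoeff.symm
  obtain ⟨x, hx⟩ := IsAlgClosed.exists_root f hdeg
  refine ⟨WittVector.teichmuller p x, ?_⟩
  rw [← Ideal.mem_span_singleton, WittVector.mem_span_p_iff_coeff_zero_eq_zero]
  show WittVector.constantCoeff (y - tpoly c e (WittVector.teichmuller p x)) = 0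
  have hfr : ∀ (n : ℕ) (z : WittVector p k), WittVector.constantCoeff
      (((WittVector.frobenius : WittVector p k →+* WittVector p k) ^ n) z) = z.coeff 0 ^ p ^ n := by
    intro n z
    rw [RingHom.coe_pow]
    exact WittVector.iterate_frobenius_coeff z n 0
  simp only [tpoly_apply, map_sub, map_sum, map_mul, hfr, WittVector.teichmuller_coeff_zero]
  simp only [Polynomial.IsRoot, f, Polynomial.eval_sub, Polynomial.eval_finset_sum,
    Polynomial.eval_mul, Polynomial.eval_C, Polynomial.eval_pow, Polynomial.eval_X] at hx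
  rw [← neg_sub, neg_eq_zero]
  exact hx

include he hc in
lemma tpoly_surjective : Function.Surjective (tpoly c e) := by
  haveI : PerfectRing k p := PerfectField.toPerfectRing p
  intro y
  choose g hg using exists_root_mod c e he hc
  choose q hq using hg
  let Y : ℕ → WittVector p k := fun n => q^[n] y
  let Z : ℕ → WittVector p k := fun n => ∑ j ∈ Finset.range n, (p : WittVector p k) ^ j * g (Y j)
  have hY : ∀ n, y - tpoly c e (Z n) = (p : WittVector p k) ^ n * Y n := by
    intro n
    induction n with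
    | zero => simp [Z, Y]
    | succ n ih =>
      have h1 : Y (n + 1) = q (Y n) := Function.iterate_succ_apply' q n y
      simp only [Z, Finset.sum_range_succ, map_add, tpoly_pow_mul] at ih ⊢
      rw [h1, pow_succ, mul_assoc, ← hq (Y n), mul_sub, ← ih]
      ring
  have hZ : ∀ {m n}, m ≤ n → (p : WittVector p k) ^ m ∣ Z m - Z n := fun {m n} h => by
    rw [← dvd_neg, neg_sub]
    simp only [Z, ← Finset.sum_Ico_eq_sub _ h]
    exact Finset.dvd_sum fun j hj => (pow_dvd_pow _ (Finset.mem_Ico.1 hj).1).mul_right _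
  obtain ⟨z, hz⟩ := IsPrecomplete.prec
    (inferInstance : IsPrecomplete (Ideal.span {(p : WittVector p k)}) (WittVector p k)) (f := Z)
    fun {m n} h => by
      rw [SModEq.sub_mem, smul_eq_mul, Ideal.mul_top, Ideal.span_singleton_pow,
        Ideal.mem_span_singleton]
      exact hZ h
  refine ⟨z, (sub_eq_zero.1 (IsHausdorff.haus
    (inferInstance : IsHausdorff (Ideal.span {(p : WittVector p k)}) (WittVector p k)) _
    fun n => ?_)).symm⟩
  have h1 := hz n
  rw [SModEq.sub_mem, smul_eq_mul, Ideal.mul_top, Ideal.span_singleton_pow,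
    Ideal.mem_span_singleton] at h1 ⊢
  obtain ⟨w, hw⟩ := h1
  rw [sub_zero, show y - tpoly c e z = (y - tpoly c e (Z n)) + tpoly c e (Z n - z) by
    rw [map_sub]; ring, hY, hw, tpoly_pow_mul]
  exact dvd_add (dvd_mul_right _ _) (dvd_mul_right _ _)

end Witt

section Field

variable [PerfectRing k p]

lemma frob_add (a b : ℤ) (x : K(p, k)) :
    Isoc.frob p k a (Isoc.frob p k b x) = Isoc.frob p k (a + b) x := by
  suffices (Isoc.frob p k a).comp (Isoc.frob p k b) = Isoc.frob p k (a + b) from
    DFunLike.congr_fun this x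
  refine IsLocalization.ringHom_ext (nonZeroDivisors (WittVector p k)) (RingHom.ext fun w => ?_)
  simp only [RingHom.comp_apply, Isoc.frob_algebraMap, zpow_add]
  rfl

lemma frob_zero_apply (x : K(p, k)) : Isoc.frob p k 0 x = x := by rw [Isoc.frob_zero]; rfl

lemma pow_frob (n : ℕ) (w : WittVector p k) :
    Isoc.frob p k n (algebraMap (WittVector p k) K(p, k) w) =
      algebraMap (WittVector p k) K(p, k)
        (((WittVector.frobenius : WittVector p k →+* WittVector p k) ^ n) w) := by
  rw [Isoc.frob_algebraMap, zpow_natCast]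
  congr 1
  induction n with
  | zero => rfl
  | succ n ih =>
    rw [pow_succ', pow_succ']
    exact congrArg WittVector.frobenius ih

omit [IsAlgClosed k] in
lemma p_ne_zero : (p : K(p, k)) ≠ 0 := by
  have h : (p : WittVector p k) ≠ 0 := WittVector.p_nonzero p k
  rwa [← map_natCast (algebraMap (WittVector p k) K(p, k)), map_ne_zero_iff _
    (IsFractionRing.injective (WittVector p k) K(p, k))]

omit [IsAlgClosed k] in
lemma exists_eq_zpow_mul (x : K(p, k)) (hx : x ≠ 0) : ∃ (n : ℤ) (u : WittVector p k),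
    u.coeff 0 ≠ 0 ∧ x = (p : K(p, k)) ^ n * algebraMap (WittVector p k) K(p, k) u := by
  obtain ⟨a, b, hb, rfl⟩ := IsFractionRing.div_surjective (A := WittVector p k) x
  have hb0 : b ≠ 0 := nonZeroDivisors.ne_zero hb
  have ha0 : a ≠ 0 := fun h => hx (by simp [h])
  obtain ⟨m, a', ha', rfl⟩ := WittVector.exists_eq_pow_p_mul a ha0
  obtain ⟨n, b', hb', rfl⟩ := WittVector.exists_eq_pow_p_mul' b hb0
  refine ⟨(m : ℤ) - n, a' * ↑b'⁻¹, ?_, ?_⟩
  · rw [WittVector.mul_coeff_zero]
    refine mul_ne_zero ha' fun h => ?_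
    have h1 := congrArg (fun w : WittVector p k => w.coeff 0) b'.inv_mul
    simp only [WittVector.mul_coeff_zero, h, zero_mul, WittVector.one_coeff_zero] at h1
    exact zero_ne_one h1
  · simp only [map_mul, map_pow, map_natCast, zpow_sub₀ (p_ne_zero (p := p) (k := k)),
      zpow_natCast]
    rw [mul_div_mul_comm]
    congr 1
    rw [div_eq_mul_inv]
    congr 1
    exact inv_eq_of_mul_eq_one_right (by rw [← map_mul, Units.mul_inv, map_one])

variable {ι : Type w} [Fintype ι]

/-- Nonzero twisted polynomials are surjective. -/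
theorem exists_twisted_root (c : ι → K(p, k)) (ε : ι → ℤ) (hε : Function.Injective ε)
    (hc : ∃ i, c i ≠ 0) (y : K(p, k)) : ∃ z, ∑ i, c i * Isoc.frob p k (ε i) z = y := by
  classical
  have hdec : ∀ i, ∃ (n : ℤ) (u : WittVector p k), c i ≠ 0 →
      u.coeff 0 ≠ 0 ∧ c i = (p : K(p, k)) ^ n * algebraMap (WittVector p k) K(p, k) u := fun i => by
    by_cases h : c i = 0
    · exact ⟨0, 0, fun h' => absurd h h'⟩
    · obtain ⟨n, u, hu, he⟩ := exists_eq_zpow_mul (c i) h
      exact ⟨n, u, fun _ => ⟨hu, he⟩⟩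
  choose n u hnu using hdec
  obtain ⟨i₁, hi₁⟩ := hc
  obtain ⟨i₀, hi₀, hmin⟩ := (Finset.univ.filter fun i => c i ≠ 0).exists_min_image n
    ⟨i₁, by simpa using hi₁⟩
  simp only [Finset.mem_filter, Finset.mem_univ, true_and] at hi₀ hmin
  obtain ⟨iM, -, hM⟩ := Finset.univ.exists_min_image ε ⟨i₁, Finset.mem_univ _⟩
  let w : ι → WittVector p k := fun i =>
    if c i = 0 then 0 else (p : WittVector p k) ^ (n i - n i₀).toNat * u i
  let e : ι → ℕ := fun i => (ε i - ε iM).toNat
  have he : ∀ i, (e i : ℤ) = ε i - ε iM := fun i =>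
    Int.toNat_of_nonneg (sub_nonneg.2 (hM i (Finset.mem_univ i)))
  have hw : ∀ i, c i = (p : K(p, k)) ^ n i₀ * algebraMap (WittVector p k) K(p, k) (w i) := fun i => by
    by_cases h : c i = 0
    · simp [w, h]
    · simp only [w, if_neg h, map_mul, map_pow, map_natCast, ← mul_assoc]
      rw [← zpow_natCast, Int.toNat_of_nonneg (sub_nonneg.2 (hmin i h)),
        ← zpow_add₀ (p_ne_zero (p := p) (k := k)), add_sub_cancel]
      exact (hnu i h).2
  have hw0 : (w i₀).coeff 0 ≠ 0 := by
    simp only [w, if_neg hi₀, sub_self, Int.toNat_zero, pow_zero, one_mul]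
    exact (hnu i₀ hi₀).1
  have hsur := tpoly_surjective w e (fun i j h => hε (by have := he i; have := he j; omega)) ⟨i₀, hw0⟩
  -- clear denominators of `y`
  rcases eq_or_ne y 0 with rfl | hy
  · exact ⟨0, by simp⟩
  obtain ⟨m, v, -, rfl⟩ := exists_eq_zpow_mul y hy
  obtain ⟨z, hz⟩ := hsur v
  refine ⟨Isoc.frob p k (-ε iM) ((p : K(p, k)) ^ (m - n i₀) * algebraMap _ _ z), ?_⟩
  have hfz : ∀ i, Isoc.frob p k (ε i) (Isoc.frob p k (-ε iM)
      ((p : K(p, k)) ^ (m - n i₀) * algebraMap (WittVector p k) K(p, k) z)) =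
      (p : K(p, k)) ^ (m - n i₀) * algebraMap (WittVector p k) K(p, k)
        (((WittVector.frobenius : WittVector p k →+* WittVector p k) ^ e i) z) := fun i => by
    rw [frob_add, show ε i + -ε iM = (e i : ℤ) by rw [he]; ring, map_mul, map_zpow₀, map_natCast,
      pow_frob]
  rw [← hz, tpoly_apply, map_sum, Finset.mul_sum]
  refine Finset.sum_congr rfl fun i _ => ?_
  rw [hfz, hw i, map_mul, mul_mul_mul_comm, ← zpow_add₀ (p_ne_zero (p := p) (k := k)),
    add_sub_cancel]

/-- `Φ - 1` is surjective for a semilinear endomorphism of a finite-dimensional space. -/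
theorem exists_sub_eq {a : ℤ} (ha : a ≠ 0) {V : Type v} [AddCommGroup V] [Module K(p, k) V]
    [Module.Finite K(p, k) V] (Φ : V →ₛₗ[Isoc.frob p k a] V) (y : V) : ∃ x, Φ x - x = y := by
  classical
  let v : ℕ → V := fun i => (⇑Φ)^[i] y
  have hΦv : ∀ i, Φ (v i) = v (i + 1) := fun i => (Function.iterate_succ_apply' _ _ _).symm
  obtain ⟨m, hm⟩ : ∃ m, v m ∈ Submodule.span K(p, k) (v '' (Finset.range m : Set ℕ)) := by
    obtain ⟨m, hm⟩ := monotone_stabilizes_iff_noetherian.2 (inferInstance : IsNoetherian K(p, k) V)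
      ⟨fun n => Submodule.span K(p, k) (v '' (Finset.range n : Set ℕ)), fun i j h =>
        Submodule.span_mono (Set.image_mono (by simpa using h))⟩
    refine ⟨m, ?_⟩
    have h := hm (m + 1) (Nat.le_succ m)
    change Submodule.span K(p, k) _ = Submodule.span K(p, k) _ at h
    rw [h]
    exact Submodule.subset_span ⟨m, by simp, rfl⟩
  rcases Nat.eq_zero_or_pos m with rfl | hmpos
  · have hy : y = 0 := by simpa [v] using hm
    exact ⟨0, by simp [hy]⟩
  obtain ⟨C, hC⟩ : ∃ C : ℕ → K(p, k), ∑ i ∈ Finset.range m, C i • v i = v m :=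
    (Submodule.mem_span_image_finset_iff_exists_fun' K(p, k)).1 hm
  let c : ℕ → K(p, k) := fun i => if i < m then C i else 0
  have hc : ∑ i ∈ Finset.range m, c i • v i = v m := by
    rw [← hC]
    exact Finset.sum_congr rfl fun i hi => by simp [c, Finset.mem_range.1 hi]
  let τ := Isoc.frob p k a
  obtain ⟨j, rfl⟩ : ∃ j, m = j + 1 := ⟨m - 1, by omega⟩
  let ε : Option (Fin (j + 1)) → ℤ := fun o => o.elim 0 fun t => (((t : ℕ) : ℤ) + 1) * a
  let coef : Option (Fin (j + 1)) → K(p, k) := fun o =>
    o.elim 1 fun t => -Isoc.frob p k ((t : ℕ) * a) (c (j - t))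
  have hε : Function.Injective ε := by
    rintro (_ | s) (_ | t) h
    · rfl
    · exfalso
      have : ((t : ℕ) : ℤ) + 1 = 0 := (mul_eq_zero.1 h.symm).resolve_right ha
      omega
    · exfalso
      have : ((s : ℕ) : ℤ) + 1 = 0 := (mul_eq_zero.1 h).resolve_right ha
      omega
    · have : ((s : ℕ) : ℤ) + 1 = ((t : ℕ) : ℤ) + 1 := mul_right_cancel₀ ha h
      exact congrArg some (Fin.ext (by omega))
  obtain ⟨z, hz⟩ := exists_twisted_root coef ε hε ⟨none, by simp [coef]⟩ (-1)
  let x : ℕ → K(p, k) := fun i =>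
    Nat.rec (τ z * c 0 - 1) (fun i xi => τ xi + c (i + 1) * τ z) i
  have hx0 : x 0 = τ z * c 0 - 1 := rfl
  have hxs : ∀ i, x (i + 1) = τ (x i) + c (i + 1) * τ z := fun i => rfl
  have hclosed : ∀ i, x i = (∑ t ∈ Finset.range (i + 1), Isoc.frob p k ((t : ℤ) * a) (c (i - t)) *
      Isoc.frob p k (((t : ℤ) + 1) * a) z) - 1 := by
    intro i
    induction i with
    | zero => simp [hx0, τ, frob_zero_apply, mul_comm]
    | succ i ih =>
      rw [hxs, ih, Finset.sum_range_succ' _ (i + 1), map_sub, map_one, map_sum]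
      simp only [Nat.cast_zero, zero_mul, zero_add, one_mul, Nat.sub_zero, frob_zero_apply]
      rw [sub_add_eq_add_sub]
      congr 2
      refine Finset.sum_congr rfl fun t _ => ?_
      simp only [τ, map_mul, frob_add, Nat.succ_sub_succ, Nat.cast_add, Nat.cast_one]
      congr 2 <;> ring_nf
  have hxj : x j = z := by
    rw [Fintype.sum_option] at hz
    simp only [coef, ε, Option.elim, one_mul, frob_zero_apply, neg_mul,
      Finset.sum_neg_distrib] at hz
    rw [hclosed, Finset.sum_range fun t => Isoc.frob p k ((t : ℤ) * a) (c (j - t)) *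
      Isoc.frob p k (((t : ℤ) + 1) * a) z]
    linear_combination -hz
  refine ⟨∑ i ∈ Finset.range (j + 1), x i • v i, ?_⟩
  have hcm : c (j + 1) = 0 := by simp [c]
  calc Φ (∑ i ∈ Finset.range (j + 1), x i • v i) - ∑ i ∈ Finset.range (j + 1), x i • v i
      = ∑ i ∈ Finset.range (j + 1), ((x (i + 1) • v (i + 1) - x i • v i) -
          τ z • (c (i + 1) • v (i + 1))) := by
        rw [map_sum, ← Finset.sum_sub_distrib]
        refine Finset.sum_congr rfl fun i _ => ?_
        rw [LinearMap.map_smulₛₗ, hΦv, hxs]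
        simp only [τ, add_smul, smul_smul, mul_comm (Isoc.frob p k a z)]
        abel
    _ = x (j + 1) • v (j + 1) - x 0 • v 0 -
          τ z • ∑ i ∈ Finset.range (j + 1), c (i + 1) • v (i + 1) := by
        rw [Finset.sum_sub_distrib, Finset.sum_range_sub (fun i => x i • v i), ← Finset.smul_sum]
    _ = y := by
        have h1 : ∑ i ∈ Finset.range (j + 1), c (i + 1) • v (i + 1) = v (j + 1) - c 0 • v 0 := by
          rw [eq_sub_iff_add_eq, ← Finset.sum_range_succ' (fun i => c i • v i),
            Finset.sum_range_succ, hc, hcm, zero_smul, add_zero]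
        rw [h1, hxs j, hxj, hcm, zero_mul, add_zero, hx0]
        simp only [smul_sub, sub_smul, one_smul, smul_smul]
        show _ = v 0
        abel

/-- Stable subspaces of an isocrystal have stable complements. -/
theorem exists_stable_isCompl {a : ℤ} (ha : a ≠ 0) {N : Type v} [AddCommGroup N]
    [Module K(p, k) N] [Module.Finite K(p, k) N] (F : N →ₛₗ[Isoc.frob p k a] N)
    (hF : Function.Bijective F) (P : Submodule K(p, k) N) (hP : ∀ x ∈ P, F x ∈ P) :
    ∃ Q : Submodule K(p, k) N, (∀ x ∈ Q, F x ∈ Q) ∧ IsCompl P Q := by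
  let E := Equiv.ofBijective F hF
  let G : N →ₛₗ[Isoc.frob p k (-a)] N :=
    { toFun := E.symm
      map_add' := fun x y => hF.1 ((E.apply_symm_apply (x + y)).trans ((congrArg₂ (· + ·)
        (E.apply_symm_apply x).symm (E.apply_symm_apply y).symm).trans (F.map_add _ _).symm))
      map_smul' := fun c x => hF.1 (by
        rw [LinearMap.map_smulₛₗ, frob_add, add_neg_cancel, frob_zero_apply]
        show E (E.symm (c • x)) = c • E (E.symm x)
        simp) }
  have hFG : ∀ x, F (G x) = x := fun x => E.apply_symm_apply x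
  have hGF : ∀ x, G (F x) = x := fun x => E.symm_apply_apply x
  have hGP : ∀ x ∈ P, G x ∈ P := by
    haveI : RingHomSurjective (Isoc.frob p k a) :=
      ⟨fun c => ⟨Isoc.frob p k (-a) c, by rw [frob_add, add_neg_cancel, frob_zero_apply]⟩⟩
    let B := Module.finBasis K(p, k) P
    have hli : LinearIndependent K(p, k) fun i => (⟨F (B i), hP _ (B i).2⟩ : P) := by
      rw [Fintype.linearIndependent_iff]
      intro g hg i
      have h0 : ∑ i, Isoc.frob p k (-a) (g i) • (B i : N) = 0 := hF.1 (by
        rw [map_sum, map_zero]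
        simp only [LinearMap.map_smulₛₗ, frob_add, add_neg_cancel, frob_zero_apply]
        simpa using congrArg Subtype.val hg)
      have := Fintype.linearIndependent_iff.1 B.linearIndependent
        (fun i => Isoc.frob p k (-a) (g i)) (Subtype.ext (by simpa using h0)) i
      exact (map_eq_zero _).1 this
    intro x hx
    obtain ⟨g, hg⟩ := (Submodule.mem_span_range_iff_exists_fun K(p, k)).1
      ((hli.span_eq_top_of_card_eq_finrank' (by simp)).symm ▸ Submodule.mem_top :
        (⟨x, hx⟩ : P) ∈ Submodule.span K(p, k) (Set.range _))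
    have hgx : x = ∑ i, g i • F (B i) := by simpa using (congrArg Subtype.val hg).symm
    rw [hgx, map_sum]
    exact P.sum_mem fun i _ => by
      rw [LinearMap.map_smulₛₗ, hGF]
      exact P.smul_mem _ (B i).2
  let V : Submodule K(p, k) (N →ₗ[K(p, k)] N) :=
    { carrier := {φ | (∀ x, φ x ∈ P) ∧ ∀ x ∈ P, φ x = 0}
      add_mem' := fun {f g} hf hg =>
        ⟨fun x => P.add_mem (hf.1 x) (hg.1 x), fun x hx => by simp [hf.2 x hx, hg.2 x hx]⟩
      zero_mem' := ⟨fun x => P.zero_mem, fun x _ => rfl⟩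
      smul_mem' := fun c f hf => ⟨fun x => P.smul_mem c (hf.1 x), fun x hx => by simp [hf.2 x hx]⟩ }
  let conj : (N →ₗ[K(p, k)] N) → (N →ₗ[K(p, k)] N) := fun φ =>
    { toFun := fun x => F (φ (G x))
      map_add' := fun x y => by simp
      map_smul' := fun c x => by
        simp only [LinearMap.map_smulₛₗ, map_smul, RingHom.id_apply, frob_add, add_neg_cancel,
          frob_zero_apply] }
  let Φ : V →ₛₗ[Isoc.frob p k a] V :=
    { toFun := fun φ => ⟨conj φ.1, fun x => hP _ (φ.2.1 _), fun x hx => by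
        show F (φ.1 (G x)) = 0
        rw [φ.2.2 _ (hGP x hx), map_zero]⟩
      map_add' := fun φ ψ => Subtype.ext (LinearMap.ext fun x => map_add F _ _)
      map_smul' := fun c φ => Subtype.ext (LinearMap.ext fun x => F.map_smulₛₗ c _) }
  obtain ⟨π₀, hπ₀⟩ := P.subtype.exists_leftInverse_of_injective (Submodule.ker_subtype P)
  let π : N →ₗ[K(p, k)] N := P.subtype ∘ₗ π₀
  have hπP : ∀ x ∈ P, π x = x := fun x hx =>
    congrArg Subtype.val (LinearMap.congr_fun hπ₀ ⟨x, hx⟩)
  have hmem : π - conj π ∈ V :=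
    ⟨fun x => P.sub_mem (π₀ x).2 (hP _ (π₀ _).2), fun x hx => by
      show π x - F (π (G x)) = 0
      rw [hπP x hx, hπP _ (hGP x hx), hFG, sub_self]⟩
  obtain ⟨φ, hφ⟩ := exists_sub_eq ha Φ ⟨π - conj π, hmem⟩
  have hφ' : ∀ x, F (φ.1 (G x)) - φ.1 x = π x - F (π (G x)) := fun x =>
    LinearMap.congr_fun (congrArg Subtype.val hφ) x
  let h : N →ₗ[K(p, k)] P :=
    LinearMap.codRestrict P (π + φ.1) fun x => P.add_mem (π₀ x).2 (φ.2.1 x)
  refine ⟨LinearMap.ker h, fun x hx => ?_, LinearMap.isCompl_of_proj fun x => Subtype.ext (by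
    show π x + φ.1 x = x
    rw [hπP _ x.2, φ.2.2 _ x.2, add_zero])⟩
  have hx' : π x + φ.1 x = 0 := congrArg Subtype.val (LinearMap.mem_ker.1 hx)
  refine LinearMap.mem_ker.2 (Subtype.ext ?_)
  show π (F x) + φ.1 (F x) = 0
  have := hφ' (F x)
  rw [hGF] at this
  rw [eq_neg_of_add_eq_zero_right hx', map_neg] at this
  linear_combination (norm := abel) -this

end Field

end Groth.Agent.IsocLib
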