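import Groth.Agent.IsocLib.Std
import Groth.Agent.IsocLib.Fixed
import Groth.Agent.IsocLib.Surj
import Mathlib.LinearAlgebra.Pi

/-!
Classification over an algebraically closed field.
-/

set_option autoImplicit false
set_option linter.style.haveILetI false
set_option linter.unusedSectionVars false

open scoped Isocrystal Pointwise

universe u v

namespace Groth.Agent.IsocLib

variable {p : ℕ} [hp : Fact p.Prime] {k : Type u} [Field k] [CharP k p] [PerfectRing k p]
  [IsAlgClosed k]

lemma frob_pow (a : ℤ) (n : ℕ) : (Isoc.frob p k a) ^ n = Isoc.frob p k (a * n) := by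
  induction n with
  | zero => rw [pow_zero, Nat.cast_zero, mul_zero, Isoc.frob_zero]; rfl
  | succ n ih =>
    refine RingHom.ext fun x => ?_
    rw [pow_succ', RingHom.coe_mul, Function.comp_apply, ih, frob_add]
    congr 2
    push_cast
    ring

variable {a : ℤ} {N : Type v} [AddCommGroup N] [Module (WittVector p k) N] [Module K(p, k) N]
  [IsScalarTower (WittVector p k) K(p, k) N] [Module.Finite K(p, k) N]

/-- Every nonzero isocrystal contains a standard one. -/
lemma exists_std_embedding (ha : a ≠ 0) {F : N →ₛₗ[Isoc.frob p k a] N} (hF : Function.Bijective F)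
    [Nontrivial N] : ∃ (d : ℤ) (h : ℕ) (f : (Fin h → K(p, k)) →ₗ[K(p, k)] N),
      0 < h ∧ Int.gcd d h = 1 ∧ Function.Injective f ∧
        ∀ x, f (Isoc.stdIsoc (Isoc.frob p k a) d h x) = F (f x) := by
  obtain ⟨μ, hμ⟩ : ∃ μ, Isoc.slopePart F μ ≠ ⊥ := by
    by_contra h
    push Not at h
    have := iSup_slopePart hF
    simp [h] at this
  set P := Isoc.slopePart F μ
  have hP := (slopePart_isoSub hF μ).1
  haveI : Nontrivial P := Submodule.nontrivial_iff_ne_bot.2 hμ
  set F' := F.restrict hP.1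
  have hF' : Function.Bijective F' := restrict_bijective hF hP.1
  obtain ⟨M, hM, r, s, hs, hrs, hFM⟩ := hP.isIsoclinic hF hP.1
  set d := μ.num
  obtain ⟨n, hn⟩ : ∃ n, μ.den = n + 1 := ⟨μ.den - 1, by have := μ.pos; omega⟩
  have hrs' : r * (μ.den : ℤ) = d * s := by
    have h1 : (r : ℚ) / s = (d : ℚ) / μ.den := hrs.trans μ.num_div_den.symm
    rw [div_eq_div_iff (Nat.cast_ne_zero.2 hs.ne') (Nat.cast_ne_zero.2 μ.den_nz)] at h1
    exact_mod_cast h1
  have hgcd : Int.gcd d (μ.den : ℤ) = 1 := by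
    show Nat.gcd d.natAbs μ.den = 1
    exact μ.reduced
  obtain ⟨t, ht⟩ : μ.den ∣ s := by
    have : (μ.den : ℤ) ∣ (s : ℤ) :=
      ((Int.isCoprime_iff_gcd_eq_one.2 hgcd).symm).dvd_of_dvd_mul_left ⟨r, by rw [← hrs', mul_comm]⟩
    exact_mod_cast this
  have htpos : 1 ≤ t := Nat.pos_of_ne_zero fun h => hs.ne' (by rw [ht, h, mul_zero])
  have hrt : r = d * t := by
    have : r * (μ.den : ℤ) = (d * t) * (μ.den : ℤ) := by rw [hrs', ht]; push_cast; ring
    exact mul_right_cancel₀ (Nat.cast_ne_zero.2 μ.den_nz) this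
  set G := twist F' (-d) μ.den with hGdef
  have hG : Function.Bijective G := twist_bijective F' hF' (-d) μ.den
  have hGt : Isoc.latImg G t M = M := by
    rw [hGdef, latImg_twist, ← ht, hFM, pPow_pPow, hrt, neg_mul, neg_add_cancel, pPow_zero]
  set M' := sumImg G M (t - 1)
  have hM' := isLattice_sumImg hG hM (t - 1)
  have hGM : Isoc.latImg G 1 M' = M' := by
    have hle : Isoc.latImg G 1 M' ≤ Isoc.pPow 0 M' := by
      rw [pPow_zero]
      refine latImg_sumImg_le G M _ _ 1 fun i h1 h2 => ?_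
      by_cases hi : i ≤ t - 1
      · exact latImg_le_sumImg G M _ i hi
      · obtain rfl : i = t := by omega
        exact hGt.le.trans (self_le_sumImg G M _)
    obtain ⟨D, hD⟩ := exists_detOrd F' hF'
    have hdet := detOrd_twist F' hD (-d) μ.den
    have hrD := mul_eq_of_latImg_eq hF' hM hD hFM
    have hzero : (Module.finrank K(p, k) P : ℤ) * -d + μ.den * D = 0 := by
      refine mul_left_cancel₀ (show (s : ℤ) ≠ 0 by exact_mod_cast hs.ne') ?_
      calc (s : ℤ) * ((Module.finrank K(p, k) P : ℤ) * -d + μ.den * D)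
          = -(d * s) * Module.finrank K(p, k) P + μ.den * (s * D) := by ring
        _ = -(r * μ.den) * Module.finrank K(p, k) P + μ.den * (r * Module.finrank K(p, k) P) := by
            rw [hrs', hrD]
        _ = (s : ℤ) * 0 := by ring
    rw [hzero] at hdet
    exact ((le_detOrd_of_latImg_le G hG hdet hM' hle).2 (zero_mul _)).trans (pPow_zero M')
  obtain ⟨x, hx0, hx⟩ := exists_fixed hG hM' hGM (a * (μ.den : ℕ)) (mul_ne_zero ha (by exact_mod_cast μ.den_nz))
    (frob_pow a μ.den)
  have hxh : (⇑F)^[n + 1] (x : N) = (p : K(p, k)) ^ d • (x : N) := by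
    rw [← restrict_iterate F hP.1, ← Submodule.coe_smul, ← hn]
    congr 1
    conv_rhs => rw [← hx, twist_apply, smul_smul, ← zpow_add₀ pL_ne_zero, add_neg_cancel, zpow_zero, one_smul]
  let f : (Fin (n + 1) → K(p, k)) →ₗ[K(p, k)] N :=
    Fintype.linearCombination K(p, k) fun i : Fin (n + 1) => (⇑F)^[(i : ℕ)] (x : N)
  have hf : ∀ v, f (Isoc.stdIsoc (Isoc.frob p k a) d (n + 1) v) = F (f v) := by
    intro v
    simp only [f, Fintype.linearCombination_apply, map_sum, LinearMap.map_smulₛₗ]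
    rw [← Equiv.sum_comp (finRotate (n + 1))]
    refine Finset.sum_congr rfl fun j _ => ?_
    rw [Isoc.stdIsoc_apply, Equiv.symm_apply_apply, mul_comm, ← smul_smul,
      ← Function.iterate_succ_apply' F]
    congr 1
    rcases (Nat.lt_succ_iff_lt_or_eq.1 j.2) with hj | hj
    · have e : finRotate (n + 1) j = ⟨(j : ℕ) + 1, by omega⟩ := finRotate_of_lt hj
      rw [e, if_neg (Nat.succ_ne_zero _), one_smul]
    · have e : finRotate (n + 1) j = 0 := by
        rw [show j = Fin.last n from Fin.ext hj, finRotate_last]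
      rw [e]
      simp only [Fin.val_zero, if_true, Function.iterate_zero_apply]
      rw [hj, Nat.succ_eq_add_one, hxh]
  refine ⟨d, n + 1, f, Nat.succ_pos n, hn ▸ hgcd, ?_, hf⟩
  rw [← LinearMap.ker_eq_bot]
  refine (std_stable_eq_bot_or_top (τ := Isoc.frob p k a) (Nat.succ_pos n) (hn ▸ hgcd)
    (LinearMap.ker f) fun v hv => ?_).resolve_right fun htop => hx0 ?_
  · rw [LinearMap.mem_ker, hf, LinearMap.mem_ker.1 hv, map_zero]
  · have h1 : f (Pi.single 0 1) = 0 := LinearMap.mem_ker.1 (htop ▸ Submodule.mem_top)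
    simp only [f, Fintype.linearCombination_apply_single, one_smul] at h1
    exact Subtype.ext h1

/-- Decomposition into standard isocrystals. -/
theorem exists_decomposition (ha : a ≠ 0) :
    ∀ (m : ℕ) (N : Type v) [AddCommGroup N] [Module (WittVector p k) N] [Module K(p, k) N]
      [IsScalarTower (WittVector p k) K(p, k) N] [Module.Finite K(p, k) N]
      (F : N →ₛₗ[Isoc.frob p k a] N) (_ : Function.Bijective F), Module.finrank K(p, k) N ≤ m →
      ∃ (t : ℕ) (d : Fin t → ℤ) (h : Fin t → ℕ)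
        (e : N ≃ₗ[K(p, k)] ((i : Fin t) → (Fin (h i) → K(p, k)))),
        (∀ i, 0 < h i ∧ Int.gcd (d i) (h i) = 1) ∧
        ∀ (x : N) (i : Fin t), e (F x) i = Isoc.stdIsoc (Isoc.frob p k a) (d i) (h i) (e x i) := by
  intro m
  induction m with
  | zero =>
    intro N _ _ _ _ _ F _ hm
    haveI : Subsingleton N := Module.finrank_zero_iff.1 (Nat.le_zero.1 hm)
    exact ⟨0, Fin.elim0, Fin.elim0, LinearEquiv.ofSubsingleton _ _, fun i => i.elim0, fun _ i => i.elim0⟩
  | succ m ih =>
    intro N _ _ _ _ _ F hF hm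
    rcases subsingleton_or_nontrivial N with hN | hN
    · exact ⟨0, Fin.elim0, Fin.elim0, LinearEquiv.ofSubsingleton _ _, fun i => i.elim0, fun _ i => i.elim0⟩
    obtain ⟨d, h, f, hh, hgcd, hfi, hf⟩ := exists_std_embedding ha hF
    have hR : ∀ x ∈ LinearMap.range f, F x ∈ LinearMap.range f := by
      rintro _ ⟨v, rfl⟩; exact ⟨_, hf v⟩
    obtain ⟨Q, hQ, hc⟩ := exists_stable_isCompl ha F hF (LinearMap.range f) hR
    have hQm : Module.finrank K(p, k) Q ≤ m := by
      have h1 := Submodule.finrank_add_eq_of_isCompl hc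
      rw [LinearMap.finrank_range_of_inj hfi, Module.finrank_pi, Fintype.card_fin] at h1
      omega
    obtain ⟨t, d', h', e', hd', he'⟩ := ih Q (F.restrict hQ) (restrict_bijective hF hQ) hQm
    let h₁ : Fin (t + 1) → ℕ := Fin.cons h h'
    let e₁ := (((LinearEquiv.ofInjective f hfi).prodCongr e'.symm).trans
      (Submodule.prodEquivOfIsCompl _ _ hc))
    let c : ((Fin h → K(p, k)) × ((i : Fin t) → Fin (h' i) → K(p, k))) ≃ₗ[K(p, k)]
        ((i : Fin (t + 1)) → Fin (h₁ i) → K(p, k)) :=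
      Fin.consLinearEquiv K(p, k) fun i : Fin (t + 1) => Fin (h₁ i) → K(p, k)
    refine ⟨t + 1, Fin.cons d d', h₁, e₁.symm.trans c, fun i => ?_, fun x i => ?_⟩
    · induction i using Fin.cases with
      | zero => exact ⟨hh, hgcd⟩
      | succ i => exact hd' i
    obtain ⟨⟨v, w⟩, rfl⟩ := e₁.surjective x
    have hF1 : F (e₁ (v, w)) = e₁ (Isoc.stdIsoc (Isoc.frob p k a) d h v,
        fun i => Isoc.stdIsoc (Isoc.frob p k a) (d' i) (h' i) (w i)) := by
      show F (f v + (e'.symm w : N)) = f _ + (e'.symm _ : N)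
      rw [map_add, hf]
      congr 1
      refine congrArg Subtype.val (e'.injective ?_ : F.restrict hQ (e'.symm w) = _)
      funext i
      rw [he', e'.apply_symm_apply, e'.apply_symm_apply]
    simp only [LinearEquiv.trans_apply, hF1, LinearEquiv.symm_apply_apply]
    induction i using Fin.cases with
    | zero => rfl
    | succ i => rfl

/-- The multiplicities of a decomposition into standard pieces. -/
theorem newtonMult_eq {F : N →ₛₗ[Isoc.frob p k a] N} (hF : Function.Bijective F) {t : ℕ}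
    (d : Fin t → ℤ) (h : Fin t → ℕ) (hpos : ∀ i, 0 < h i)
    (e : N ≃ₗ[K(p, k)] ((i : Fin t) → (Fin (h i) → K(p, k))))
    (he : ∀ (x : N) (i : Fin t), e (F x) i = Isoc.stdIsoc (Isoc.frob p k a) (d i) (h i) (e x i))
    (μ : ℚ) :
    Isoc.newtonMult F μ = ∑ i : Fin t, (if ((d i : ℚ) / (h i : ℚ)) = μ then h i else 0) := by
  classical
  let π : ∀ i, N →ₗ[K(p, k)] (Fin (h i) → K(p, k)) := fun i => LinearMap.proj i ∘ₗ e.toLinearMap
  let ι : ∀ i, (Fin (h i) → K(p, k)) →ₗ[K(p, k)] N := fun i =>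
    e.symm.toLinearMap ∘ₗ LinearMap.single K(p, k) (fun i => Fin (h i) → K(p, k)) i
  have hι : ∀ i v, ι i (Isoc.stdIsoc (Isoc.frob p k a) (d i) (h i) v) = F (ι i v) := fun i v => by
    refine e.injective (funext fun j => ?_)
    rw [he]
    simp only [ι, LinearMap.comp_apply, LinearEquiv.coe_coe, e.apply_symm_apply, LinearMap.coe_single]
    rcases eq_or_ne j i with rfl | hji
    · rw [Pi.single_eq_same, Pi.single_eq_same]
    · rw [Pi.single_eq_of_ne hji, Pi.single_eq_of_ne hji, map_zero]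
  have hvan : ∀ i, (d i : ℚ) / h i ≠ μ → ∀ x ∈ Isoc.slopePart F μ, e x i = 0 := fun i hi x hx => by
    have h1 := (slopePart_isoSub hF μ).1.map (F' := Isoc.stdIsoc (Isoc.frob p k a) (d i) (h i)) (π i)
      fun y => he y i
    have h2 := (isoSub_top_iff.2 (std_isIsoclinic (τ := Isoc.frob p k a) (d := d i) (hpos i))).mono
      std_bijective le_top h1.1
    have h3 : Submodule.map (π i) (Isoc.slopePart F μ) = ⊥ :=
      h1.eq_bot std_bijective h2 (Ne.symm hi)
    exact (Submodule.mem_bot _).1 (h3 ▸ Submodule.mem_map_of_mem hx : π i x ∈ (⊥ : Submodule _ _))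
  have hin : ∀ i, (d i : ℚ) / h i = μ → ∀ v, ι i v ∈ Isoc.slopePart F μ := fun i hi v =>
    (slopePart_isoSub hF μ).2 _
      (hi ▸ (isoSub_top_iff.2 (std_isIsoclinic (τ := Isoc.frob p k a) (d := d i) (hpos i))).map
        (F' := F) (ι i) (hι i)) (Submodule.mem_map_of_mem Submodule.mem_top)
  let g : Isoc.slopePart F μ →ₗ[K(p, k)]
      ((i : {i // (d i : ℚ) / h i = μ}) → Fin (h i.1) → K(p, k)) :=
    LinearMap.pi fun i => π i.1 ∘ₗ (Isoc.slopePart F μ).subtype
  have hg : Function.Bijective g := by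
    refine ⟨(injective_iff_map_eq_zero g).2 fun x hx => Subtype.ext (e.injective (funext fun i => ?_)),
      fun w => ?_⟩
    · rw [Submodule.coe_zero, map_zero e]
      by_cases hi : (d i : ℚ) / h i = μ
      · exact congrFun hx ⟨i, hi⟩
      · exact hvan i hi x x.2
    · refine ⟨⟨∑ i : {i // (d i : ℚ) / h i = μ}, ι i.1 (w i),
        Submodule.sum_mem _ fun i _ => hin i.1 i.2 _⟩, funext fun i => ?_⟩
      show π i.1 (∑ l : {i // (d i : ℚ) / h i = μ}, ι l.1 (w l)) = w i
      rw [map_sum, Finset.sum_eq_single i]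
      · simp [π, ι]
      · intro j _ hj
        have : (i : Fin t) ≠ j := fun e => hj (Subtype.ext e.symm)
        simp [π, ι, Pi.single_eq_of_ne this]
      · simp
  rw [Isoc.newtonMult, (LinearEquiv.ofBijective g hg).finrank_eq, Module.finrank_pi_fintype,
    ← Finset.sum_filter, ← Finset.sum_subtype_eq_sum_filter]
  simp

end Groth.Agent.IsocLib
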