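import Groth.Agent.IsocLib.Iso

/-!
The slope decomposition.
-/

set_option autoImplicit false
set_option linter.style.haveILetI false
set_option linter.unusedSectionVars false

open scoped Isocrystal Pointwise Topology
open Filter

universe u v

namespace Groth.Agent.IsocLib

variable {p : ℕ} [hp : Fact p.Prime] {k : Type u} [Field k] [CharP k p] [PerfectRing k p]
variable {τ : K(p, k) →+* K(p, k)} [WPres τ]
variable {N : Type v} [AddCommGroup N] [Module (WittVector p k) N] [Module K(p, k) N]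
  [IsScalarTower (WittVector p k) K(p, k) N] [Module.Finite K(p, k) N]

lemma it_add (G : N →ₛₗ[τ] N) (n : ℕ) (x y : N) :
    (⇑G)^[n] (x + y) = (⇑G)^[n] x + (⇑G)^[n] y := (Isoc.iter G n).map_add x y

lemma it_sub (G : N →ₛₗ[τ] N) (n : ℕ) (x y : N) :
    (⇑G)^[n] (x - y) = (⇑G)^[n] x - (⇑G)^[n] y := (Isoc.iter G n).map_sub x y

lemma it_zero (G : N →ₛₗ[τ] N) (n : ℕ) : (⇑G)^[n] (0 : N) = 0 := (Isoc.iter G n).map_zero

section Complete

variable {M : Submodule (WittVector p k) N} (hM : M.IsLattice K(p, k))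

include hM in
lemma exists_limit (a : ℕ → N) (ha : ∀ j, a j ∈ M)
    (hc : ∀ j : ℕ, a (j + 1) - a j ∈ Isoc.pPow (j : ℤ) M) :
    ∃ l ∈ M, ∀ j : ℕ, l - a j ∈ Isoc.pPow (j : ℤ) M := by
  haveI := hM
  let e := Module.Free.chooseBasis (WittVector p k) M
  have hmono : ∀ {m n : ℕ}, m ≤ n → a n - a m ∈ Isoc.pPow (m : ℤ) M := by
    intro m n hmn
    induction n, hmn using Nat.le_induction with
    | base => rw [sub_self]; exact zero_mem _
    | succ n hmn ih =>
      rw [show a (n + 1) - a m = (a (n + 1) - a n) + (a n - a m) by abel]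
      exact add_mem (pPow_anti (by omega) M (hc n)) ih
  have hdvd : ∀ {m n : ℕ}, m ≤ n → ∀ i,
      (p : WittVector p k) ^ m ∣ e.repr ⟨a n, ha n⟩ i - e.repr ⟨a m, ha m⟩ i := by
    intro m n hmn i
    have h := mem_pPow.1 (hmono hmn)
    have he : (⟨a n, ha n⟩ - ⟨a m, ha m⟩ : M) = (p : WittVector p k) ^ m • ⟨_, h⟩ := Subtype.ext (by
      show a n - a m = (p : WittVector p k) ^ m • ((p : K(p, k)) ^ (-(m : ℤ)) • (a n - a m))
      rw [smul_eq_alg_smul, map_pow, map_natCast, smul_smul, ← zpow_natCast, ← zpow_add₀ pL_ne_zero,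
        add_neg_cancel, zpow_zero, one_smul])
    rw [← Finsupp.sub_apply, ← map_sub, he, map_smul, Finsupp.smul_apply, smul_eq_mul]
    exact dvd_mul_right _ _
  have hlim : ∀ i, ∃ l : WittVector p k, ∀ n : ℕ,
      (p : WittVector p k) ^ n ∣ e.repr ⟨a n, ha n⟩ i - l := by
    intro i
    obtain ⟨l, hl⟩ := IsPrecomplete.prec
      (inferInstance : IsPrecomplete (Ideal.span {(p : WittVector p k)}) (WittVector p k))
      (f := fun n => e.repr ⟨a n, ha n⟩ i) fun {m n} h => by
        rw [SModEq.sub_mem, smul_eq_mul, Ideal.mul_top, Ideal.span_singleton_pow,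
          Ideal.mem_span_singleton, ← dvd_neg, neg_sub]
        exact hdvd h i
    refine ⟨l, fun n => ?_⟩
    have := hl n
    rwa [SModEq.sub_mem, smul_eq_mul, Ideal.mul_top, Ideal.span_singleton_pow,
      Ideal.mem_span_singleton] at this
  choose l hl using hlim
  choose q hq using hl
  let z : M := ∑ i, l i • e i
  refine ⟨z, z.2, fun j => ?_⟩
  have he : z - ⟨a j, ha j⟩ = (p : WittVector p k) ^ j • (-∑ i, q i j • e i) := by
    apply e.repr.injective
    ext i
    rw [map_sub, map_smul, map_neg, Finsupp.sub_apply, Finsupp.smul_apply, Finsupp.neg_apply,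
      show e.repr z i = l i from by simp only [z, e.repr_sum_self], e.repr_sum_self, smul_eq_mul,
      mul_neg, ← hq i j, neg_sub]
  rw [show (z : N) - a j = ((z - ⟨a j, ha j⟩ : M) : N) from rfl, he, SetLike.val_smul,
    smul_eq_alg_smul, map_pow, map_natCast, ← zpow_natCast]
  exact smul_mem_pPow (Submodule.coe_mem _)

end Complete

variable {G : N →ₛₗ[τ] N} (hG : Function.Bijective G)
variable {M : Submodule (WittVector p k) N} (hM : M.IsLattice K(p, k))

/-- Elements whose orbit tends to zero. -/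
def nilPart (G : N →ₛₗ[τ] N) (M : Submodule (WittVector p k) N) : Submodule K(p, k) N where
  carrier := {x | ∀ j : ℤ, ∃ n₀ : ℕ, ∀ n, n₀ ≤ n → (⇑G)^[n] x ∈ Isoc.pPow j M}
  add_mem' {x y} hx hy j := by
    obtain ⟨n₁, h₁⟩ := hx j
    obtain ⟨n₂, h₂⟩ := hy j
    refine ⟨max n₁ n₂, fun n hn => ?_⟩
    rw [show (⇑G)^[n] (x + y) = _ from (Isoc.iter G n).map_add x y]
    exact add_mem (h₁ n (le_trans (le_max_left _ _) hn)) (h₂ n (le_trans (le_max_right _ _) hn))
  zero_mem' j := ⟨0, fun n _ => by
    rw [show (⇑G)^[n] 0 = 0 from (Isoc.iter G n).map_zero]; exact zero_mem _⟩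
  smul_mem' l x hx j := by
    rcases eq_or_ne l 0 with rfl | hl
    · refine ⟨0, fun n _ => ?_⟩
      rw [zero_smul, show (⇑G)^[n] 0 = 0 from (Isoc.iter G n).map_zero]
      exact zero_mem _
    obtain ⟨m, u, rfl⟩ := exists_eq_zpow l hl
    obtain ⟨n₀, h₀⟩ := hx (j - m)
    refine ⟨n₀, fun n hn => ?_⟩
    rw [iterate_smul_alg, map_mul, tau_p, tau_alg, ← smul_smul, algebraMap_smul]
    have := smul_mem_pPow (r := m) ((Isoc.pPow (j - m) M).smul_mem (tauW (τ ^ n) u) (h₀ n hn))
    rwa [pPow_pPow, add_sub_cancel] at this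

/-- The part of `M` on which `G` is bijective. -/
noncomputable def unitPart (G : N →ₛₗ[τ] N) (M : Submodule (WittVector p k) N) :
    Submodule (WittVector p k) N := ⨅ n : ℕ, Isoc.latImg G n M

lemma unitPart_le : unitPart G M ≤ M := (iInf_le _ 0).trans (latImg_zero G M).le

variable (hGM : Isoc.latImg G 1 M ≤ M)

include hGM in
lemma latImg_antitone : Antitone fun n => Isoc.latImg G n M :=
  antitone_nat_of_succ_le fun n => by rw [← latImg_latImg]; exact latImg_mono G hGM

include hGM in
lemma latImg_le_self (n : ℕ) : Isoc.latImg G n M ≤ M :=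
  (latImg_antitone hGM (Nat.zero_le n)).trans (latImg_zero G M).le

include hG hGM in
lemma latImg_unitPart : Isoc.latImg G 1 (unitPart G M) = unitPart G M := by
  refine le_antisymm ((latImg_le_iff G).2 fun x hx => (Submodule.mem_iInf _).2 fun n => ?_) fun x hx => ?_
  · have h := apply_mem_latImg G (s := 1) ((Submodule.mem_iInf _).1 hx n)
    rw [latImg_latImg] at h
    exact latImg_antitone hGM (show n ≤ 1 + n by omega) h
  · obtain ⟨y, hy, rfl⟩ := (mem_latImg G).1 ((Submodule.mem_iInf _).1 hx 1)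
    refine apply_mem_latImg G ((Submodule.mem_iInf _).2 fun n => ?_)
    have h := (Submodule.mem_iInf _).1 hx (1 + n)
    rw [← latImg_latImg] at h
    obtain ⟨z, hz, e⟩ := (mem_latImg G).1 h
    exact iterate_injective G hG 1 e ▸ hz

include hG hM hGM in
/-- Every element of `M` is the sum of an element of the unit part and a topologically nilpotent one. -/
lemma mem_sup_nilPart {x : N} (hx : x ∈ M) :
    ∃ a ∈ unitPart G M, x - a ∈ nilPart G M := by
  classical
  haveI := hM
  -- stabilisation modulo `p`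
  obtain ⟨n₁, hn₁⟩ : ∃ n₁, ∀ n, n₁ ≤ n →
      Isoc.latImg G n₁ M ≤ Isoc.latImg G n M ⊔ Isoc.pPow 1 M := by
    set H := Module.finrank K(p, k) N
    let T : ℕ → Submodule (WittVector p k) N := fun j => Isoc.latImg G j M ⊔ Isoc.pPow 1 M
    have hTanti : Antitone T := fun a b hab => sup_le_sup_right (latImg_antitone hGM hab) _
    obtain ⟨j, hj, hTj⟩ := chain_stabilizes hM (fun i => T (H + 1 - i)) H le_rfl
      (fun a b hab => hTanti (by omega)) le_sup_right
      (sup_le (latImg_le_self hGM _) (pPow_le_self zero_le_one M))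
    refine ⟨H + 1 - (j + 1), fun n hn => ?_⟩
    set i := H + 1 - (j + 1) with hi
    have hstab : T (i + 1) = T i := by
      rw [show i + 1 = H + 1 - j by omega]; exact hTj
    have step : ∀ m, T (m + 1) = Isoc.latImg G 1 (T m) ⊔ Isoc.pPow 1 M := fun m => by
      simp only [T, latImg_sup, latImg_latImg, latImg_pPow, sup_assoc, add_comm 1 m]
      rw [sup_eq_right.2 (pPow_mono hGM)]
    have hconst : ∀ n, T (i + n) = T i := by
      intro n
      induction n with
      | zero => rfl
      | succ n ih =>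
        refine le_antisymm (hTanti (by omega)) ?_
        rw [← hstab, step, show i + (n + 1) = (i + n) + 1 by ring, step, ih]
    have h : T n = T i := by rw [show n = i + (n - i) by omega]; exact hconst _
    exact le_sup_left.trans h.ge
  -- stabilisation modulo `p^j`
  have hst : ∀ j m : ℕ, Isoc.latImg G (j * n₁) M ≤ Isoc.latImg G m M ⊔ Isoc.pPow (j : ℤ) M := by
    intro j
    induction j with
    | zero => intro m; rw [Nat.cast_zero, pPow_zero]; exact (latImg_le_self hGM _).trans le_sup_right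
    | succ j ih =>
      intro m
      rw [Nat.succ_mul, ← latImg_latImg]
      refine (latImg_mono G (hn₁ (m + n₁) (by omega))).trans ?_
      rw [latImg_sup, latImg_pPow, latImg_latImg]
      refine sup_le (le_sup_of_le_left (latImg_antitone hGM (by omega))) ?_
      refine (pPow_mono (ih m)).trans ?_
      rw [pPow_sup, pPow_pPow]
      exact sup_le_sup (pPow_le_self zero_le_one _) (le_of_eq (by congr 1; push_cast; ring))
  -- kernels
  have hker : ∀ j : ℕ, ∃ n₂, ∀ n, ∀ y ∈ M, (⇑G)^[n] y ∈ Isoc.pPow (j : ℤ) M →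
      (⇑G)^[n₂] y ∈ Isoc.pPow (j : ℤ) M := by
    intro j
    have hGp : ∀ n m, n ≤ m → ∀ y, (⇑G)^[n] y ∈ Isoc.pPow (j : ℤ) M →
        (⇑G)^[m] y ∈ Isoc.pPow (j : ℤ) M := fun n m hnm y h => by
      rw [show m = (m - n) + n by omega, Function.iterate_add_apply]
      have h' := apply_mem_latImg G (s := m - n) h
      rw [latImg_pPow] at h'
      exact pPow_mono (latImg_le_self hGM _) h'
    let K : ℕ →o Submodule (WittVector p k) M :=
      ⟨fun n =>
        { carrier := {y : M | (⇑G)^[n] (y : N) ∈ Isoc.pPow (j : ℤ) M}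
          add_mem' := fun {a b} ha hb => by
            simp only [Set.mem_setOf_eq, Submodule.coe_add] at ha hb ⊢
            rw [it_add]
            exact add_mem ha hb
          zero_mem' := by
            simp only [Set.mem_setOf_eq, ZeroMemClass.coe_zero]
            rw [it_zero]
            exact zero_mem _
          smul_mem' := fun w a ha => by
            simp only [Set.mem_setOf_eq, SetLike.val_smul] at ha ⊢
            rw [smul_eq_alg_smul, iterate_smul_alg, tau_alg, algebraMap_smul]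
            exact Submodule.smul_mem _ _ ha },
      fun a b hab y hy => hGp a b hab y hy⟩
    obtain ⟨n₂, hn₂⟩ := monotone_stabilizes_iff_noetherian.2
      (inferInstance : IsNoetherian (WittVector p k) M) K
    refine ⟨n₂, fun n y hy h => ?_⟩
    rcases le_total n n₂ with hle | hle
    · exact hGp n n₂ hle y h
    · have : (⟨y, hy⟩ : M) ∈ K n := h
      rwa [← hn₂ n hle] at this
  choose n₂ hn₂ using hker
  -- decompose modulo `p^j`
  have hdec : ∀ j : ℕ, ∃ a ∈ M, (∀ m, a ∈ Isoc.latImg G m M ⊔ Isoc.pPow (j : ℤ) M) ∧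
      ∃ n, (⇑G)^[n] (x - a) ∈ Isoc.pPow (j : ℤ) M := by
    intro j
    set n := j * n₁ + n₂ j with hn
    have h1 : (⇑G)^[n] x ∈ Isoc.latImg G (n + n) M ⊔ Isoc.pPow (j : ℤ) M :=
      hst j (n + n) (latImg_antitone hGM (show j * n₁ ≤ n by omega) (apply_mem_latImg G hx))
    obtain ⟨_, hy', z, hz, he⟩ := Submodule.mem_sup.1 h1
    obtain ⟨y, hy, rfl⟩ := (mem_latImg G).1 hy'
    refine ⟨(⇑G)^[n] y, latImg_le_self hGM _ (apply_mem_latImg G hy), fun m =>
      hst j m (latImg_antitone hGM (show j * n₁ ≤ n by omega) (apply_mem_latImg G hy)), n, ?_⟩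
    rw [show (⇑G)^[n] (x - (⇑G)^[n] y) = (⇑G)^[n] x - (⇑G)^[n] ((⇑G)^[n] y) from
      (Isoc.iter G n).map_sub _ _, ← Function.iterate_add_apply, ← he, add_sub_cancel_left]
    exact hz
  choose a haM haA nb hab using hdec
  -- compatibility
  have hcomp : ∀ j : ℕ, a (j + 1) - a j ∈ Isoc.pPow (j : ℤ) M := by
    intro j
    have hA : ∀ m, a (j + 1) - a j ∈ Isoc.latImg G m M ⊔ Isoc.pPow (j : ℤ) M := fun m =>
      sub_mem (sup_le_sup_left (pPow_anti (by omega) M) _ (haA (j + 1) m)) (haA j m)
    have hk : ∀ i : ℕ, (⇑G)^[n₂ i] (x - a i) ∈ Isoc.pPow (i : ℤ) M := fun i =>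
      hn₂ i (nb i) (x - a i) (sub_mem hx (haM i)) (hab i)
    have hB : (⇑G)^[n₂ j] (a (j + 1) - a j) ∈ Isoc.pPow (j : ℤ) M := by
      have h1 := hn₂ j (nb (j + 1)) (x - a (j + 1)) (sub_mem hx (haM _))
        (pPow_anti (by omega) M (hab (j + 1)))
      have h2 := sub_mem (hk j) h1
      rwa [← it_sub,
        sub_sub_sub_cancel_left] at h2
    obtain ⟨_, hy', z, hz, he⟩ := Submodule.mem_sup.1 (hA (n₂ j))
    obtain ⟨y, hy, rfl⟩ := (mem_latImg G).1 hy'
    have h3 : (⇑G)^[n₂ j + n₂ j] y ∈ Isoc.pPow (j : ℤ) M := by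
      have hz' : (⇑G)^[n₂ j] z ∈ Isoc.pPow (j : ℤ) M := by
        have h' := apply_mem_latImg G (s := n₂ j) hz
        rw [latImg_pPow] at h'
        exact pPow_mono (latImg_le_self hGM _) h'
      have := sub_mem hB hz'
      rwa [← he, it_add, add_sub_cancel_right, ← Function.iterate_add_apply] at this
    rw [← he]
    exact add_mem (hn₂ j _ y hy h3) hz
  obtain ⟨l, hlM, hl⟩ := exists_limit hM a haM hcomp
  refine ⟨l, (Submodule.mem_iInf _).2 fun m => ?_, fun j => ?_⟩
  · obtain ⟨c, hc⟩ := exists_le_pPow (isLattice_latImg G hG m hM) hM.fg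
    have h1 : Isoc.pPow (c : ℤ) M ≤ Isoc.latImg G m M := by
      have := pPow_mono (r := (c : ℤ)) hc
      rwa [pPow_pPow, add_neg_cancel, pPow_zero] at this
    rw [show l = (l - a c) + a c by abel]
    exact add_mem (h1 (hl c)) ((sup_le le_rfl h1) (haA c m))
  · set i := j.toNat
    refine ⟨nb i, fun n hn => pPow_anti (show j ≤ (i : ℤ) by omega) M ?_⟩
    have h1 : (⇑G)^[nb i] (x - l) ∈ Isoc.pPow (i : ℤ) M := by
      have hl' : (⇑G)^[nb i] (l - a i) ∈ Isoc.pPow (i : ℤ) M := by
        have h' := apply_mem_latImg G (s := nb i) (hl i)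
        rw [latImg_pPow] at h'
        exact pPow_mono (latImg_le_self hGM _) h'
      have := sub_mem (hab i) hl'
      rwa [← it_sub,
        sub_sub_sub_cancel_right] at this
    rw [show n = (n - nb i) + nb i by omega, Function.iterate_add_apply]
    have h' := apply_mem_latImg G (s := n - nb i) h1
    rw [latImg_pPow] at h'
    exact pPow_mono (latImg_le_self hGM _) h'

include hG hM in
/-- Not everything is topologically nilpotent when the slope is zero. -/
lemma nilPart_ne_top [Nontrivial N] (h0 : Isoc.IsFirstSlope G 0) : nilPart G M ≠ ⊤ := by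
  intro htop
  haveI := hM
  let e := Module.Free.chooseBasis (WittVector p k) M
  choose n₀ hn₀ using fun i => (htop ▸ Submodule.mem_top : (e i : N) ∈ nilPart G M) 1
  set n := Finset.univ.sup n₀ + 1
  have hle : Isoc.latImg G n M ≤ Isoc.pPow 1 M := (latImg_le_iff G).2 fun y hy => by
    have hy' : y = ∑ i, e.repr ⟨y, hy⟩ i • (e i : N) := by
      refine (congrArg Subtype.val (e.sum_repr ⟨y, hy⟩)).symm.trans ?_
      simp only [Submodule.coe_sum, SetLike.val_smul]
    rw [hy', show (⇑G)^[n] (∑ i, e.repr ⟨y, hy⟩ i • (e i : N)) = _ from map_sum (Isoc.iter G n) _ _]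
    refine Submodule.sum_mem _ fun i _ => ?_
    rw [Isoc.iter_apply, smul_eq_alg_smul, iterate_smul_alg, tau_alg, algebraMap_smul]
    exact Submodule.smul_mem _ _ (hn₀ i n (le_trans (Finset.le_sup (Finset.mem_univ i)) (Nat.le_succ _)))
  have := div_le_slope hG hM h0 (Nat.succ_pos _) hle
  rw [Int.cast_one, one_div, inv_nonpos] at this
  exact absurd this (not_le.2 (by positivity))

end Groth.Agent.IsocLib
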