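import Groth.Agent.IsocLib.Lat
import Mathlib.LinearAlgebra.Dimension.Free
import Mathlib.LinearAlgebra.Matrix.ToLin

/-!
Determinants of semilinear endomorphisms and orders of lattices.
-/

set_option autoImplicit false
set_option linter.style.haveILetI false
set_option linter.unusedSectionVars false

open scoped Isocrystal Pointwise

universe u v

namespace Groth.Agent.IsocLib

variable {p : ℕ} [hp : Fact p.Prime] {k : Type u} [Field k] [CharP k p] [PerfectRing k p]
variable {N : Type v} [AddCommGroup N] [Module K(p, k) N]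

/-- Matrix of a map in a basis. -/
noncomputable def mat {n : ℕ} (b : Module.Basis (Fin n) K(p, k) N) (f : N → N) :
    Matrix (Fin n) (Fin n) K(p, k) := Matrix.of fun i j => b.repr (f (b j)) i

section SemiLinear

variable {τ : K(p, k) →+* K(p, k)} {n : ℕ} (b : Module.Basis (Fin n) K(p, k) N) (F : N →ₛₗ[τ] N)

lemma detCoeff_eq : Isoc.detCoeff b F = (mat b F).det := rfl

lemma repr_apply (x : N) (i : Fin n) :
    b.repr (F x) i = ∑ j, mat b F i j * τ (b.repr x j) := by
  conv_lhs => rw [← b.sum_repr x, map_sum]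
  simp only [LinearMap.map_smulₛₗ, map_sum, map_smul, Finsupp.coe_finsetSum, Finset.sum_apply,
    Finsupp.smul_apply, smul_eq_mul]
  exact Finset.sum_congr rfl fun j _ => mul_comm _ _

lemma mat_comp (f : N → N) :
    mat b (F ∘ f) = mat b F * (mat b f).map τ := by
  ext i j
  simp only [Matrix.mul_apply, Matrix.map_apply]
  exact repr_apply b F (f (b j)) i

lemma det_mat_comp (f : N → N) :
    (mat b (F ∘ f)).det = Isoc.detCoeff b F * τ (mat b f).det := by
  rw [mat_comp, Matrix.det_mul, RingHom.map_det]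
  rfl

lemma mat_basis_change {b' : Module.Basis (Fin n) K(p, k) N} :
    b.toMatrix b' * mat b' F = mat b F * (b.toMatrix b').map τ := by
  ext i j
  simp only [Matrix.mul_apply, Matrix.map_apply, Module.Basis.toMatrix_apply]
  rw [← repr_apply b F]
  conv_rhs => rw [← b'.sum_repr (F (b' j)), map_sum]
  simp only [map_smul, Finsupp.coe_finsetSum, Finset.sum_apply, Finsupp.smul_apply, smul_eq_mul]
  exact Finset.sum_congr rfl fun l _ => mul_comm _ _

lemma detCoeff_ne_zero (hF : Function.Bijective F) [RingHomSurjective τ] :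
    Isoc.detCoeff b F ≠ 0 := by
  intro h
  obtain ⟨v, hv, hv0⟩ := Matrix.exists_mulVec_eq_zero_iff.2 h
  have hsurj : Function.Surjective τ := RingHomSurjective.is_surjective
  choose w hw using fun j => hsurj (v j)
  refine hv ?_
  have hFx : F (∑ j, w j • b j) = 0 := b.repr.injective (Finsupp.ext fun i => by
    rw [repr_apply, map_zero, Finsupp.zero_apply]
    have := congrFun hv0 i
    simp only [Module.Basis.repr_sum_self, hw]
    exact this)
  have hx : ∑ j, w j • b j = 0 := hF.1 (hFx.trans (map_zero F).symm)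
  funext j
  rw [← hw j, Fintype.linearIndependent_iff.1 b.linearIndependent w hx j, map_zero]
  rfl

/-- `d` is the order of the determinant of `F`. -/
def DetOrd (F : N →ₛₗ[τ] N) (d : ℤ) : Prop :=
  ∃ (n : ℕ) (b : Module.Basis (Fin n) K(p, k) N), Isoc.IsOrdP (Isoc.detCoeff b F) d

variable [WPres τ]

lemma detOrd_basis {d : ℤ} (h : DetOrd F d) : Isoc.IsOrdP (Isoc.detCoeff b F) d := by
  obtain ⟨m, b₀, hb⟩ := h
  obtain rfl : m = n := by
    have h1 := Module.finrank_eq_card_basis b₀
    have h2 := Module.finrank_eq_card_basis b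
    rw [h1, Fintype.card_fin, Fintype.card_fin] at h2
    exact h2
  have h := congrArg Matrix.det (mat_basis_change b₀ F (b' := b))
  simp only [Matrix.det_mul] at h
  rw [show ((b₀.toMatrix b).map τ).det = τ (b₀.toMatrix b).det from (RingHom.map_det τ _).symm] at h
  have hQ : (b₀.toMatrix b).det ≠ 0 := by
    haveI := b₀.invertibleToMatrix b
    exact (Matrix.isUnit_det_of_invertible _).ne_zero
  obtain ⟨q, hq⟩ := isOrdP_exists hQ
  have hr := isOrdP_mul hb (isOrdP_tau τ hq)
  rw [← detCoeff_eq, ← detCoeff_eq] at h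
  rw [← h] at hr
  have hne : Isoc.detCoeff b F ≠ 0 := fun e => isOrdP_ne_zero hr (by rw [e, mul_zero])
  obtain ⟨r, hr'⟩ := isOrdP_exists hne
  have := isOrdP_unique (isOrdP_mul hq hr') hr
  rwa [show r = d by omega] at hr'

lemma detOrd_unique {d d' : ℤ} (h : DetOrd F d) (h' : DetOrd F d') : d = d' := by
  obtain ⟨m, b₀, hb⟩ := h
  exact isOrdP_unique hb (detOrd_basis b₀ F h')

lemma exists_detOrd [Module.Finite K(p, k) N] (hF : Function.Bijective F) : ∃ d, DetOrd F d := by
  obtain ⟨d, hd⟩ := isOrdP_exists (detCoeff_ne_zero (Module.finBasis K(p, k) N) F hF)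
  exact ⟨d, _, _, hd⟩

lemma detOrd_iter {d : ℤ} (hd : DetOrd F d) (s : ℕ) : DetOrd (Isoc.iter F s) (s * d) := by
  obtain ⟨m, b₀, hb⟩ := hd
  refine ⟨m, b₀, ?_⟩
  induction s with
  | zero =>
    rw [Nat.cast_zero, zero_mul]
    refine ⟨1, ?_⟩
    have : mat b₀ (Isoc.iter F 0) = 1 := by
      ext i j
      simp [mat, Matrix.one_apply, Finsupp.single_apply, eq_comm]
    rw [detCoeff_eq, this]
    simp
  | succ s ih =>
    rw [detCoeff_eq, show (⇑(Isoc.iter F (s + 1))) = F ∘ (⇑(Isoc.iter F s)) from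
      Function.iterate_succ' _ _, det_mat_comp, show ((s + 1 : ℕ) : ℤ) * d = d + s * d by push_cast; ring]
    exact isOrdP_mul hb (isOrdP_tau τ ih)

lemma detOrd_twist {d : ℤ} (hd : DetOrd F d) (m : ℤ) (s : ℕ) :
    DetOrd ((p : K(p, k)) ^ m • Isoc.iter F s) (Module.finrank K(p, k) N * m + s * d) := by
  obtain ⟨n₀, b₀, hb⟩ := detOrd_iter F hd s
  refine ⟨n₀, b₀, ?_⟩
  have : mat b₀ ((p : K(p, k)) ^ m • Isoc.iter F s : N →ₛₗ[τ ^ s] N) =
      (p : K(p, k)) ^ m • mat b₀ (Isoc.iter F s) := by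
    ext i j; simp [mat]
  rw [detCoeff_eq, this, Matrix.det_smul, Fintype.card_fin, ← zpow_natCast, ← zpow_mul,
    Module.finrank_eq_card_basis b₀, Fintype.card_fin, mul_comm (n₀ : ℤ) m]
  exact isOrdP_mul (isOrdP_zpow _) hb

variable [Module (WittVector p k) N] [IsScalarTower (WittVector p k) K(p, k) N]

/-- If `F M ⊆ p^r M` then `r h ≤ d`, with equality only when `F M = p^r M`. -/
lemma le_detOrd_of_latImg_le [Module.Finite K(p, k) N] (hF : Function.Bijective F) {d : ℤ}
    (hd : DetOrd F d) {M : Submodule (WittVector p k) N} (hM : M.IsLattice K(p, k)) {r : ℤ}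
    (h : Isoc.latImg F 1 M ≤ Isoc.pPow r M) :
    r * Module.finrank K(p, k) N ≤ d ∧
      (r * Module.finrank K(p, k) N = d → Isoc.latImg F 1 M = Isoc.pPow r M) := by
  haveI := hM
  let e := Module.Free.chooseBasis (WittVector p k) M
  let e' := e.reindex (Fintype.equivFin _)
  set h₀ := Fintype.card (Module.Free.ChooseBasisIndex (WittVector p k) M)
  let B : Module.Basis (Fin h₀) K(p, k) N := e'.extendOfIsLattice K(p, k)
  have hB : ∀ i, B i = (e' i : N) := fun i => Module.Basis.extendOfIsLattice_apply _ e' i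
  have hrk : Module.finrank K(p, k) N = h₀ := by
    rw [Module.finrank_eq_card_basis B, Fintype.card_fin]
  have hrepr : ∀ (x : M) i, B.repr (x : N) i = algebraMap (WittVector p k) K(p, k) (e'.repr x i) := by
    intro x i
    conv_lhs => rw [← e'.sum_repr x]
    simp only [Submodule.coe_sum, SetLike.val_smul, ← hB]
    simp only [← algebraMap_smul K(p, k) (e'.repr x _), B.repr_sum_self]
  have hc : ∀ j, (p : K(p, k)) ^ (-r) • F (B j) ∈ M := fun j =>
    mem_pPow.1 (h ((mem_latImg F).2 ⟨B j, hB j ▸ (e' j).2, rfl⟩))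
  let C : Matrix (Fin h₀) (Fin h₀) (WittVector p k) := Matrix.of fun i j => e'.repr ⟨_, hc j⟩ i
  have hmat : mat B F = (p : K(p, k)) ^ r • C.map (algebraMap (WittVector p k) K(p, k)) := by
    ext i j
    simp only [Matrix.smul_apply, Matrix.map_apply, smul_eq_mul, C, Matrix.of_apply, ← hrepr,
      map_smul, Finsupp.smul_apply, ← mul_assoc, ← zpow_add₀ (pL_ne_zero (p := p) (k := k)),
      add_neg_cancel, zpow_zero, one_mul]
    rfl
  have hdB := detOrd_basis B F hd
  rw [detCoeff_eq, hmat, Matrix.det_smul, Fintype.card_fin, ← zpow_natCast, ← zpow_mul] at hdB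
  obtain ⟨u, hu⟩ := hdB
  have hdet : algebraMap (WittVector p k) K(p, k) C.det =
      (p : K(p, k)) ^ (d - r * h₀) * algebraMap (WittVector p k) K(p, k) u := by
    rw [RingHom.map_det, RingHom.mapMatrix_apply, sub_eq_neg_add, zpow_add₀ pL_ne_zero, mul_assoc,
      ← hu, ← mul_assoc, ← zpow_add₀ pL_ne_zero, neg_add_cancel, zpow_zero, one_mul]
  have h0 := unit_zpow_mem hdet.symm
  refine ⟨by rw [hrk]; omega, fun heq => le_antisymm h fun x hx => ?_⟩
  rw [hrk] at heq
  rw [heq, sub_self, zpow_zero, one_mul] at hdet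
  have hCu : IsUnit C := (Matrix.isUnit_iff_isUnit_det C).2 (alg_inj.1 hdet ▸ u.isUnit)
  -- coordinates of `p^{-r} x`
  let z : Fin h₀ → WittVector p k := fun i => e'.repr ⟨_, mem_pPow.1 hx⟩ i
  obtain ⟨y, hy⟩ := (Matrix.mulVec_surjective_iff_isUnit.2 hCu) z
  let y' : M := ∑ j, (tauW τ).symm (y j) • e' j
  refine (mem_latImg F).2 ⟨y', y'.2, B.repr.injective (Finsupp.ext fun i => ?_)⟩
  show B.repr (F y') i = _
  have hy' : ∀ j, e'.repr y' j = (tauW τ).symm (y j) := fun j => by simp only [y', e'.repr_sum_self]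
  rw [repr_apply]
  have hx' : B.repr x i = (p : K(p, k)) ^ r * algebraMap (WittVector p k) K(p, k) (z i) := by
    simp only [z, ← hrepr, map_smul, Finsupp.smul_apply, smul_eq_mul, ← mul_assoc,
      ← zpow_add₀ (pL_ne_zero (p := p) (k := k)), add_neg_cancel, zpow_zero, one_mul]
  rw [hx', ← hy]
  simp only [hmat, Matrix.smul_apply, Matrix.map_apply, smul_eq_mul, hrepr, hy', tau_alg,
    RingEquiv.apply_symm_apply, Matrix.mulVec, dotProduct, map_sum, map_mul, Finset.mul_sum,
    mul_assoc]

end SemiLinear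

end Groth.Agent.IsocLib
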