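import Groth.Agent.IsocLib.Slope

/-!
Effectivity criteria and rationality of the first slope.
-/

set_option autoImplicit false
set_option linter.style.haveILetI false
set_option linter.unusedSectionVars false

open scoped Isocrystal Pointwise Topology
open Filter

universe u v

namespace Groth.Agent.IsocLib

variable {p : ℕ} [hp : Fact p.Prime] {k : Type u} [Field k] [CharP k p] [PerfectRing k p]
variable {τ : K(p, k) →+* K(p, k)} [WPres τ]
variable {N : Type v} [AddCommGroup N] [Module (WittVector p k) N] [Module K(p, k) N]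
  [IsScalarTower (WittVector p k) K(p, k) N] [Module.Finite K(p, k) N]
variable {F : N →ₛₗ[τ] N} (hF : Function.Bijective F)
variable {M : Submodule (WittVector p k) N} (hM : M.IsLattice K(p, k))

/-- `M + F M + ... + F^n M`. -/
noncomputable def sumImg (F : N →ₛₗ[τ] N) (M : Submodule (WittVector p k) N) :
    ℕ → Submodule (WittVector p k) N
  | 0 => M
  | n + 1 => M ⊔ Isoc.latImg F 1 (sumImg F M n)

lemma sumImg_le_succ (F : N →ₛₗ[τ] N) (M : Submodule (WittVector p k) N) (n : ℕ) :
    sumImg F M n ≤ sumImg F M (n + 1) := by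
  induction n with
  | zero => exact le_sup_left
  | succ n ih => exact sup_le_sup_left (latImg_mono F ih) _

lemma latImg_one_sumImg_le (F : N →ₛₗ[τ] N) (M : Submodule (WittVector p k) N) (n : ℕ) :
    Isoc.latImg F 1 (sumImg F M n) ≤ sumImg F M (n + 1) := le_sup_right

lemma self_le_sumImg (F : N →ₛₗ[τ] N) (M : Submodule (WittVector p k) N) (n : ℕ) :
    M ≤ sumImg F M n := by
  cases n with
  | zero => exact le_rfl
  | succ n => exact le_sup_left

lemma latImg_le_sumImg (F : N →ₛₗ[τ] N) (M : Submodule (WittVector p k) N) :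
    ∀ (n i : ℕ), i ≤ n → Isoc.latImg F i M ≤ sumImg F M n := by
  intro n
  induction n with
  | zero => intro i hi; obtain rfl : i = 0 := by omega
            exact (latImg_zero F M).le
  | succ n ih =>
    intro i hi
    rcases i with _ | i
    · exact (latImg_zero F M).le.trans le_sup_left
    · refine le_trans ?_ le_sup_right
      rw [add_comm i 1, ← latImg_latImg]
      exact latImg_mono F (ih i (by omega))

lemma latImg_sumImg_le (F : N →ₛₗ[τ] N) (M X : Submodule (WittVector p k) N) :
    ∀ (n i : ℕ), (∀ t, i ≤ t → t ≤ i + n → Isoc.latImg F t M ≤ X) →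
      Isoc.latImg F i (sumImg F M n) ≤ X := by
  intro n
  induction n with
  | zero => intro i h; exact h i le_rfl le_rfl
  | succ n ih =>
    intro i h
    rw [sumImg, latImg_sup, latImg_latImg]
    exact sup_le (h i le_rfl (by omega)) (ih (i + 1) fun t h1 h2 => h t (by omega) (by omega))

lemma sumImg_mono (F : N →ₛₗ[τ] N) (M : Submodule (WittVector p k) N) :
    Monotone (sumImg F M) := monotone_nat_of_le_succ (sumImg_le_succ F M)

include hF hM in
lemma isLattice_sumImg (n : ℕ) : (sumImg F M n).IsLattice K(p, k) := by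
  induction n with
  | zero => exact hM
  | succ n ih =>
    haveI := hM
    haveI := isLattice_latImg F hF 1 ih
    exact Submodule.IsLattice.sup K(p, k) _ _

include hM in
/-- A monotone chain between `pM` and `M` stabilises within `h` steps. -/
lemma chain_stabilizes (S : ℕ → Submodule (WittVector p k) N) (h : ℕ)
    (hh : Module.finrank K(p, k) N ≤ h) (hmono : Monotone S)
    (hlow : Isoc.pPow 1 M ≤ S 0) (hup : S (h + 1) ≤ M) :
    ∃ j, j ≤ h ∧ S j = S (j + 1) := by
  classical
  haveI := hM
  by_contra hne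
  push Not at hne
  have hstep : ∀ j : Fin (h + 1), ∃ x : M, (x : N) ∈ S (j + 1) ∧ (x : N) ∉ S j := fun j => by
    have hlt := lt_of_le_of_ne (hmono (Nat.le_succ (j : ℕ))) (hne j (by omega))
    obtain ⟨x, hx, hx'⟩ := SetLike.exists_of_lt hlt
    exact ⟨⟨x, hup (hmono (show (j : ℕ) + 1 ≤ h + 1 by omega) hx)⟩, hx, hx'⟩
  choose x hx hx' using hstep
  let e := Module.Free.chooseBasis (WittVector p k) M
  let v : Fin (h + 1) → (Module.Free.ChooseBasisIndex (WittVector p k) M → k) :=
    fun j i => (e.repr (x j) i).coeff 0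
  have hcard : Fintype.card (Module.Free.ChooseBasisIndex (WittVector p k) M) =
      Module.finrank K(p, k) N := by
    rw [Module.finrank_eq_card_basis (e.extendOfIsLattice K(p, k))]
  have hdep : ¬ LinearIndependent k v := fun hli => by
    have := hli.fintype_card_le_finrank
    rw [Module.finrank_pi, Fintype.card_fin, hcard] at this
    omega
  rw [Fintype.linearIndependent_iff] at hdep
  push Not at hdep
  obtain ⟨c, hc, hc0⟩ := hdep
  obtain ⟨i₀, hi₀⟩ := hc0
  obtain ⟨J, hJ, hJmax⟩ := (Finset.univ.filter fun i => c i ≠ 0).exists_max_image (fun i => (i : ℕ))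
    ⟨i₀, by simp [hi₀]⟩
  simp only [Finset.mem_filter, Finset.mem_univ, true_and] at hJ hJmax
  let z : M := ∑ j, WittVector.teichmuller p (c j) • x j
  have hz : (z : N) ∈ S J := by
    refine hmono (Nat.zero_le (J : ℕ)) (hlow ?_)
    have hdvd : ∀ i, ∃ w, e.repr z i = (p : WittVector p k) * w := fun i => by
      refine Ideal.mem_span_singleton.1 ((WittVector.mem_span_p_iff_coeff_zero_eq_zero _).2 ?_)
      have := congrFun hc i
      simp only [Finset.sum_apply, Pi.smul_apply, smul_eq_mul, Pi.zero_apply, v] at this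
      rw [← this]
      show WittVector.constantCoeff (e.repr z i) = _
      simp only [z, map_sum, map_smul, Finsupp.coe_finsetSum, Finset.sum_apply, Finsupp.smul_apply,
        smul_eq_mul, map_mul]
      rfl
    choose w hw using hdvd
    have hzy : z = (p : WittVector p k) • ∑ i, w i • e i := by
      rw [Finset.smul_sum]
      conv_lhs => rw [← e.sum_repr z]
      exact Finset.sum_congr rfl fun i _ => by rw [hw i, smul_smul]
    rw [hzy, SetLike.val_smul, smul_eq_alg_smul, map_natCast, ← zpow_one (p : K(p, k))]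
    exact smul_mem_pPow (Submodule.coe_mem _)
  have hother : ∀ j, j ≠ J → WittVector.teichmuller p (c j) • (x j : N) ∈ S J := fun j hj => by
    rcases eq_or_ne (c j) 0 with h0 | h0
    · rw [h0, WittVector.teichmuller_zero, zero_smul]; exact zero_mem _
    · refine Submodule.smul_mem _ _ (hmono ?_ (hx j))
      have := hJmax j h0
      have : (j : ℕ) ≠ J := fun e => hj (Fin.ext e)
      omega
  have hJm : WittVector.teichmuller p (c J) • (x J : N) ∈ S J := by
    have hsum : (z : N) = WittVector.teichmuller p (c J) • (x J : N) +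
        ∑ j ∈ Finset.univ.erase J, WittVector.teichmuller p (c j) • (x j : N) := by
      rw [Finset.add_sum_erase _ (fun j => WittVector.teichmuller p (c j) • (x j : N))
        (Finset.mem_univ J)]
      simp [z]
    rw [hsum] at hz
    exact (Submodule.add_mem_iff_left _
      (Submodule.sum_mem _ fun j hj => hother j (Finset.ne_of_mem_erase hj))).1 hz
  obtain ⟨u, hu⟩ := isUnit_iff_coeff_zero.2
    (show (WittVector.teichmuller p (c J)).coeff 0 ≠ 0 by simpa using hJ)
  refine hx' J ?_
  rw [← hu] at hJm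
  have := (S J).smul_mem ((u⁻¹ : (WittVector p k)ˣ) : WittVector p k) hJm
  rwa [smul_smul, Units.inv_mul, one_smul] at this

include hF hM in
/-- `F^(h+1) M ⊆ p⁻¹ M` implies effectivity. -/
lemma isEffective_of_latImg_le {h : ℕ} (hh : Module.finrank K(p, k) N ≤ h)
    (hFM : Isoc.latImg F (h + 1) M ≤ Isoc.pPow (-1) M) : Isoc.IsEffective F := by
  set M₁ := sumImg F M h with hM₁def
  have hM₁ := isLattice_sumImg hF hM h
  have hup : sumImg F M₁ (h + 1) ≤ Isoc.pPow (-1) M₁ := by
    have key : ∀ i, i ≤ h + 1 → Isoc.latImg F i M₁ ≤ Isoc.pPow (-1) M₁ := fun i hi => by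
      refine latImg_sumImg_le F M _ h i fun t _ ht => ?_
      by_cases htle : t ≤ h
      · exact (latImg_le_sumImg F M h t htle).trans
          ((pPow_zero M₁).symm.le.trans (pPow_anti (by omega) M₁))
      · rw [show t = (t - (h + 1)) + (h + 1) by omega, ← latImg_latImg]
        refine (latImg_mono F hFM).trans ?_
        rw [latImg_pPow]
        exact pPow_mono (latImg_le_sumImg F M h _ (by omega))
    suffices ∀ n, n ≤ h + 1 → ∀ i, i + n ≤ h + 1 →
        Isoc.latImg F i (sumImg F M₁ n) ≤ Isoc.pPow (-1) M₁ by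
      simpa [latImg_zero] using this (h + 1) le_rfl 0 (by omega)
    intro n hn i hi
    exact latImg_sumImg_le F M₁ _ n i fun t _ ht => key t (by omega)
  obtain ⟨j, -, hj⟩ := chain_stabilizes (isLattice_pPow (-1) hM₁) (sumImg F M₁) h hh
    (sumImg_mono F M₁)
    (by rw [pPow_pPow, add_neg_cancel, pPow_zero]; exact le_rfl) hup
  exact ⟨sumImg F M₁ j, isLattice_sumImg hF hM₁ j, (latImg_one_sumImg_le F M₁ j).trans hj.symm.le⟩

variable [Nontrivial N]

include hF in
/-- Positive slope: some iterate contracts a lattice. -/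
lemma exists_latImg_le_of_pos {lam : ℝ} (h : Isoc.IsFirstSlope F lam) (hpos : 0 < lam) :
    ∃ (M : Submodule (WittVector p k) N), M.IsLattice K(p, k) ∧ Isoc.latImg F 1 M ≤ M := by
  obtain ⟨M₀, hM₀, -⟩ := id h
  obtain ⟨n, hn, hn1⟩ := ((slope_tendsto hF hM₀ h).eventually (eventually_gt_nhds hpos)
    |>.and (eventually_ge_atTop 1)).exists
  have hn0 : (0 : ℝ) < ordFun hF hM₀ n := by
    rwa [lt_div_iff₀ (Nat.cast_pos.2 hn1), zero_mul] at hn
  have hle : Isoc.latImg F n M₀ ≤ M₀ :=
    (ordFun_spec hF hM₀ n).1.trans (pPow_le_self (le_of_lt (by exact_mod_cast hn0)) M₀)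
  refine ⟨sumImg F M₀ (n - 1), isLattice_sumImg hF hM₀ _, latImg_sumImg_le F M₀ _ _ 1 fun t h1 h2 => ?_⟩
  by_cases ht : t ≤ n - 1
  · exact latImg_le_sumImg F M₀ _ t ht
  · obtain rfl : t = n := by omega
    exact hle.trans (self_le_sumImg F M₀ _)

include hF in
/-- Nonnegative slope implies effective. -/
theorem isEffective_of_slope_nonneg {lam : ℝ} (h : Isoc.IsFirstSlope F lam) (hnn : 0 ≤ lam) :
    Isoc.IsEffective F := by
  set H := Module.finrank K(p, k) N
  have h' := isFirstSlope_twist hF h 1 (H + 1)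
  obtain ⟨M, hM, hle⟩ := exists_latImg_le_of_pos (twist_bijective F hF 1 (H + 1)) h' (by
    push_cast
    nlinarith [mul_nonneg (show (0 : ℝ) ≤ (H : ℝ) + 1 by positivity) hnn])
  refine isEffective_of_latImg_le hF hM le_rfl ?_
  rw [latImg_twist, mul_one, Nat.cast_one] at hle
  rw [← pPow_le_pPow_iff (r := 1), pPow_pPow, add_neg_cancel, pPow_zero]
  exact hle

include hF in
lemma exists_lattice_of_div_le {lam : ℝ} (h : Isoc.IsFirstSlope F lam) {r : ℤ} {s : ℕ} (hs : 0 < s)
    (hle : (r : ℝ) / s ≤ lam) : ∃ M : Submodule (WittVector p k) N,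
      M.IsLattice K(p, k) ∧ Isoc.latImg F s M ≤ Isoc.pPow r M := by
  have h' := isFirstSlope_twist hF h (-r) s
  obtain ⟨M, hM, hM'⟩ := isEffective_of_slope_nonneg (twist_bijective F hF (-r) s) h' (by
    rw [div_le_iff₀ (Nat.cast_pos.2 hs)] at hle
    push_cast
    linarith)
  refine ⟨M, hM, ?_⟩
  rw [latImg_twist, Nat.cast_one, mul_one, mul_one] at hM'
  rw [← pPow_le_pPow_iff (r := -r), pPow_pPow, neg_add_cancel, pPow_zero]
  exact hM'

include hF in
/-- A slope of absolute value at most `1/(h+1)` vanishes. -/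
lemma slope_eq_zero {lam : ℝ} (h : Isoc.IsFirstSlope F lam)
    (hsmall : |lam| * ((Module.finrank K(p, k) N : ℝ) + 1) ≤ 1) : lam = 0 := by
  set H := Module.finrank K(p, k) N with hH
  obtain ⟨hlo, hhi⟩ : -1 ≤ lam * ((H : ℝ) + 1) ∧ lam * ((H : ℝ) + 1) ≤ 1 := by
    rw [← abs_le, abs_mul, abs_of_nonneg (show (0 : ℝ) ≤ (H : ℝ) + 1 by positivity)]
    exact hsmall
  obtain ⟨M₀, hM₀, hle⟩ := exists_lattice_of_div_le hF h (r := -1) (s := H + 1) (by omega) (by
    rw [div_le_iff₀ (by positivity)]
    push_cast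
    linarith)
  obtain ⟨M, hM, hM1⟩ := isEffective_of_latImg_le hF hM₀ le_rfl hle
  have hnn : 0 ≤ lam := by
    have := div_le_slope hF hM h one_pos (r := 0) (by rwa [pPow_zero])
    simpa using this
  by_contra hne
  have hpos : 0 < lam := lt_of_le_of_ne hnn (Ne.symm hne)
  -- the descending chain `F^j M + pM`
  let T : ℕ → Submodule (WittVector p k) N := fun j => Isoc.latImg F j M ⊔ Isoc.pPow 1 M
  have hTanti : Antitone T := antitone_nat_of_succ_le fun j => by
    refine sup_le_sup_right ?_ _
    rw [← latImg_latImg]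
    exact latImg_mono F hM1
  obtain ⟨j, hj, hTj⟩ := chain_stabilizes hM (fun i => T (H + 1 - i)) H le_rfl
    (fun a b hab => hTanti (by omega)) le_sup_right
    (by simp only [Nat.sub_self, T, latImg_zero]; exact sup_le le_rfl (pPow_le_self zero_le_one M))
  set i := H + 1 - (j + 1) with hi
  have hstab : T (i + 1) = T i := by
    rw [show i + 1 = H + 1 - j by omega]; exact hTj
  have hconst : ∀ n, T (i + n) = T i := by
    intro n
    induction n with
    | zero => rfl
    | succ n ih =>
      refine le_antisymm (hTanti (by omega)) ?_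
      rw [← hstab]
      have step : ∀ m, T (m + 1) = Isoc.latImg F 1 (T m) ⊔ Isoc.pPow 1 M := fun m => by
        simp only [T, latImg_sup, latImg_latImg, latImg_pPow, sup_assoc, add_comm 1 m]
        rw [sup_eq_right.2 (pPow_mono hM1)]
      rw [step, show i + (n + 1) = (i + n) + 1 by ring, step, ih]
  obtain ⟨n, hn, hn1⟩ := ((slope_tendsto hF hM h).eventually (eventually_gt_nhds hpos)
    |>.and (eventually_ge_atTop (i + 1))).exists
  have hn0 : (0 : ℝ) < ordFun hF hM n := by
    rwa [lt_div_iff₀ (Nat.cast_pos.2 (by omega)), zero_mul] at hn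
  have hTn : T n ≤ Isoc.pPow 1 M :=
    sup_le ((ordFun_spec hF hM n).1.trans (pPow_anti (by exact_mod_cast hn0) M)) le_rfl
  have hTi : Isoc.latImg F i M ≤ Isoc.pPow 1 M := by
    have : T n = T i := by rw [show n = i + (n - i) by omega]; exact hconst _
    exact le_sup_left.trans (this ▸ hTn)
  rcases Nat.eq_zero_or_pos i with h0 | h0
  · rw [h0, latImg_zero] at hTi
    exact (isOrd_zero hF hM).2 (by rwa [latImg_zero, zero_add])
  · have hd := div_le_slope hF hM h h0 hTi
    rw [Int.cast_one, div_le_iff₀ (Nat.cast_pos.2 h0)] at hd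
    have : (i : ℝ) ≤ H := by exact_mod_cast (show i ≤ H by omega)
    nlinarith

include hF in
/-- Rationality of the first slope. -/
theorem exists_slope_eq {lam : ℝ} (h : Isoc.IsFirstSlope F lam) :
    ∃ (r : ℤ) (s : ℕ) (M : Submodule (WittVector p k) N), 0 < s ∧ s ≤ Module.finrank K(p, k) N ∧
      lam = (r : ℝ) / s ∧ M.IsLattice K(p, k) ∧ Isoc.IsOrd M F s r := by
  obtain ⟨j, s', hs0, hsH, habs⟩ :=
    Real.exists_int_int_abs_mul_sub_le lam (finrank_pos' (p := p) (k := k) (N := N))
  obtain ⟨s, rfl⟩ := Int.eq_ofNat_of_zero_le hs0.le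
  have hs : 0 < s := by omega
  have h' := isFirstSlope_twist hF h (-j) s
  have hz := slope_eq_zero (twist_bijective F hF (-j) s) h' (by
    push_cast at habs ⊢
    rw [le_div_iff₀ (by positivity)] at habs
    simpa [sub_eq_add_neg] using habs)
  push_cast at hz
  have hlam : lam = (j : ℝ) / s := by
    rw [eq_div_iff (Nat.cast_ne_zero.2 hs.ne')]
    linarith
  obtain ⟨M, hM, hle⟩ := exists_lattice_of_div_le hF h hs hlam.ge
  refine ⟨j, s, M, hs, by omega, hlam, hM, hle, fun h2 => ?_⟩
  have := div_le_slope hF hM h hs h2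
  rw [hlam, div_le_div_iff_of_pos_right (Nat.cast_pos.2 hs), Int.cast_le] at this
  omega

end Groth.Agent.IsocLib
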