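import Groth.Agent.IsocLib.Effective
import Mathlib.LinearAlgebra.FiniteDimensional.Basic
import Mathlib.RingTheory.Finiteness.Lattice

/-!
Isoclinic subspaces.
-/

set_option autoImplicit false
set_option linter.style.haveILetI false
set_option linter.unusedSectionVars false

open scoped Isocrystal Pointwise

universe u v w

namespace Groth.Agent.IsocLib

variable {p : ℕ} [hp : Fact p.Prime] {k : Type u} [Field k] [CharP k p] [PerfectRing k p]
variable {τ : K(p, k) →+* K(p, k)} [WPres τ]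
variable {N : Type v} [AddCommGroup N] [Module (WittVector p k) N] [Module K(p, k) N]
  [IsScalarTower (WittVector p k) K(p, k) N] [Module.Finite K(p, k) N]
variable {N' : Type w} [AddCommGroup N'] [Module (WittVector p k) N'] [Module K(p, k) N']
  [IsScalarTower (WittVector p k) K(p, k) N']

lemma bijective_of_injective (F : N →ₛₗ[τ] N) (hF : Function.Injective F) :
    Function.Bijective F := by
  refine ⟨hF, fun x => ?_⟩
  let B := Module.finBasis K(p, k) N
  have hli : LinearIndependent K(p, k) fun i => F (B i) := by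
    rw [Fintype.linearIndependent_iff]
    intro g hg i
    choose g' hg' using fun j => tau_surjective τ (g j)
    have h0 : ∑ j, g' j • B j = 0 := hF (by
      rw [map_sum, map_zero]
      simpa only [LinearMap.map_smulₛₗ, hg'] using hg)
    rw [← hg' i, Fintype.linearIndependent_iff.1 B.linearIndependent g' h0 i, map_zero]
  obtain ⟨g, hg⟩ := (Submodule.mem_span_range_iff_exists_fun K(p, k)).1
    ((hli.span_eq_top_of_card_eq_finrank' (by simp)).symm ▸ Submodule.mem_top :
      x ∈ Submodule.span K(p, k) (Set.range _))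
  choose g' hg' using fun j => tau_surjective τ (g j)
  exact ⟨∑ j, g' j • B j, by rw [map_sum]; simpa only [LinearMap.map_smulₛₗ, hg'] using hg⟩

lemma restrict_iterate (F : N →ₛₗ[τ] N) {P : Submodule K(p, k) N} (hP : ∀ x ∈ P, F x ∈ P)
    (s : ℕ) (x : P) : (((⇑(F.restrict hP))^[s] x : P) : N) = (⇑F)^[s] (x : N) := by
  induction s with
  | zero => rfl
  | succ s ih => rw [Function.iterate_succ_apply', Function.iterate_succ_apply', ← ih]; rfl

lemma restrict_bijective {F : N →ₛₗ[τ] N} (hF : Function.Bijective F) {P : Submodule K(p, k) N}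
    (hP : ∀ x ∈ P, F x ∈ P) : Function.Bijective (F.restrict hP) :=
  bijective_of_injective _ fun _ _ h => Subtype.ext (hF.1 (congrArg Subtype.val h))

lemma map_iterate {F : N →ₛₗ[τ] N} {F' : N' →ₛₗ[τ] N'} (f : N →ₗ[K(p, k)] N')
    (hf : ∀ x, f (F x) = F' (f x)) (s : ℕ) (x : N) : f ((⇑F)^[s] x) = (⇑F')^[s] (f x) := by
  induction s with
  | zero => rfl
  | succ s ih => rw [Function.iterate_succ_apply', Function.iterate_succ_apply', hf, ih]

variable {F : N →ₛₗ[τ] N}

lemma fg_of_le {M M' : Submodule (WittVector p k) N} (hM : M.FG) (h : M' ≤ M) : M'.FG := by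
  haveI := isNoetherian_of_fg_of_noetherian M hM
  exact isNoetherian_submodule.1 this M' h

lemma latImg_mul_eq {M : Submodule (WittVector p k) N} {r : ℤ} {s : ℕ}
    (h : Isoc.latImg F s M = Isoc.pPow r M) (j : ℕ) :
    Isoc.latImg F (j * s) M = Isoc.pPow ((j : ℤ) * r) M := by
  induction j with
  | zero => simp [latImg_zero, pPow_zero]
  | succ j ih =>
    rw [Nat.succ_mul, ← latImg_latImg, h, latImg_pPow, ih, pPow_pPow]
    congr 1
    push_cast
    ring

/-- A stable subspace which is isoclinic of slope `μ`. -/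
def IsoSub (F : N →ₛₗ[τ] N) (P : Submodule K(p, k) N) (μ : ℚ) : Prop :=
  (∀ x ∈ P, F x ∈ P) ∧ ∃ M : Submodule (WittVector p k) N, M.FG ∧
    Submodule.span K(p, k) (M : Set N) = P ∧
    ∃ (r : ℤ) (s : ℕ), 0 < s ∧ (r : ℚ) / s = μ ∧ Isoc.latImg F s M = Isoc.pPow r M

lemma IsoSub.bot (μ : ℚ) : IsoSub F ⊥ μ := by
  refine ⟨fun x hx => by rw [(Submodule.mem_bot _).1 hx, map_zero]; exact zero_mem _, ⊥, Submodule.fg_bot,
    by simp, μ.num, μ.den, μ.pos, μ.num_div_den, ?_⟩
  rw [eq_bot_iff.2 ((latImg_le_iff F).2 fun x hx => by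
      rw [(Submodule.mem_bot _).1 hx, show (⇑F)^[μ.den] 0 = 0 from (Isoc.iter F μ.den).map_zero]
      exact zero_mem _)]
  refine (eq_bot_iff.2 fun x hx => ?_).symm
  rw [mem_pPow, Submodule.mem_bot, smul_eq_zero] at hx
  exact (Submodule.mem_bot _).2 (hx.resolve_left (zpow_ne_zero _ pL_ne_zero))

lemma IsoSub.sup {P Q : Submodule K(p, k) N} {μ : ℚ} (hP : IsoSub F P μ) (hQ : IsoSub F Q μ) :
    IsoSub F (P ⊔ Q) μ := by
  obtain ⟨hs, M, hM, hMP, r, s, hs0, hμ, h⟩ := hP
  obtain ⟨hs', M', hM', hMQ, r', s', hs0', hμ', h'⟩ := hQ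
  refine ⟨fun x hx => ?_, M ⊔ M', hM.sup hM', ?_, (s' : ℤ) * r, s' * s, Nat.mul_pos hs0' hs0, ?_, ?_⟩
  · obtain ⟨y, hy, z, hz, rfl⟩ := Submodule.mem_sup.1 hx
    rw [map_add]
    exact Submodule.add_mem_sup (hs y hy) (hs' z hz)
  · rw [← hMP, ← hMQ]
    refine le_antisymm (Submodule.span_le.2 fun x hx => ?_)
      (sup_le (Submodule.span_mono fun x hx => Submodule.mem_sup_left hx)
        (Submodule.span_mono fun x hx => Submodule.mem_sup_right hx))
    obtain ⟨y, hy, z, hz, rfl⟩ := Submodule.mem_sup.1 hx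
    exact Submodule.add_mem_sup (Submodule.subset_span hy) (Submodule.subset_span hz)
  · rw [← hμ]
    push_cast
    exact mul_div_mul_left _ _ (Nat.cast_ne_zero.2 hs0'.ne')
  · have hr : (r : ℚ) * s' = r' * s :=
      (div_eq_div_iff (Nat.cast_ne_zero.2 hs0.ne') (Nat.cast_ne_zero.2 hs0'.ne')).1 (hμ.trans hμ'.symm)
    have hr' : r * s' = r' * (s : ℤ) := by exact_mod_cast hr
    rw [latImg_sup, pPow_sup, latImg_mul_eq h s', mul_comm s' s, latImg_mul_eq h' s,
      show (s : ℤ) * r' = (s' : ℤ) * r by rw [mul_comm, ← hr', mul_comm]]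

lemma IsoSub.map {F' : N' →ₛₗ[τ] N'} (f : N →ₗ[K(p, k)] N')
    (hf : ∀ x, f (F x) = F' (f x)) {P : Submodule K(p, k) N} {μ : ℚ} (hP : IsoSub F P μ) :
    IsoSub F' (P.map f) μ := by
  obtain ⟨hs, M, hM, hMP, r, s, hs0, hμ, h⟩ := hP
  refine ⟨?_, M.map (f.restrictScalars (WittVector p k)), hM.map _, ?_, r, s, hs0, hμ, ?_⟩
  · rintro _ ⟨x, hx, rfl⟩
    exact ⟨F x, hs x hx, hf x⟩
  · rw [← hMP, Submodule.map_span]
    rfl
  · refine le_antisymm ((latImg_le_iff F').2 ?_) fun x hx => ?_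
    · rintro _ ⟨y, hy, rfl⟩
      have h1 : (⇑F)^[s] y ∈ Isoc.pPow r M := h ▸ apply_mem_latImg F hy
      rw [mem_pPow] at h1 ⊢
      refine ⟨_, h1, ?_⟩
      show f _ = (p : K(p, k)) ^ (-r) • _
      rw [map_smul, map_iterate f hf]
      rfl
    · obtain ⟨y, hy, e⟩ := mem_pPow.1 hx
      obtain ⟨z, hz, hze⟩ := (mem_latImg F).1 (h.ge (smul_mem_pPow (r := r) hy))
      refine (mem_latImg F').2 ⟨f z, ⟨z, hz, rfl⟩, ?_⟩
      rw [← map_iterate f hf, hze, map_smul, show f y = _ from e, smul_smul,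
        ← zpow_add₀ pL_ne_zero, add_neg_cancel, zpow_zero, one_smul]

lemma IsoSub.mono (hF : Function.Bijective F) {P Q : Submodule K(p, k) N} {μ : ℚ}
    (hP : IsoSub F P μ) (hQP : Q ≤ P) (hQ : ∀ x ∈ Q, F x ∈ Q) : IsoSub F Q μ := by
  obtain ⟨-, M, hM, hMP, r, s, hs0, hμ, h⟩ := hP
  haveI : IsNoetherian (WittVector p k) M := isNoetherian_of_fg_of_noetherian M hM
  refine ⟨hQ, M ⊓ Q.restrictScalars (WittVector p k), ?_, ?_, r, s, hs0, hμ, ?_⟩
  · exact fg_of_le hM inf_le_left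
  · refine le_antisymm (Submodule.span_le.2 fun x hx => hx.2) fun x hx => ?_
    have hx' : x ∈ Submodule.span K(p, k) (M : Set N) := hMP ▸ hQP hx
    obtain ⟨c, hc⟩ : ∃ c : ℕ, (p : K(p, k)) ^ (c : ℤ) • x ∈ M := by
      clear hx
      induction hx' using Submodule.span_induction with
      | mem x hx => exact ⟨0, by simpa using hx⟩
      | zero => exact ⟨0, by simp⟩
      | add x y _ _ hx hy =>
        obtain ⟨c, hc⟩ := hx
        obtain ⟨e, he⟩ := hy
        refine ⟨c + e, ?_⟩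
        rw [smul_add]
        refine add_mem ?_ ?_
        · have := M.smul_mem ((p : WittVector p k) ^ e) hc
          rwa [smul_eq_alg_smul, map_pow, map_natCast, smul_smul, ← zpow_natCast,
            ← zpow_add₀ pL_ne_zero, show (e : ℤ) + c = ((c + e : ℕ) : ℤ) by push_cast; ring] at this
        · have := M.smul_mem ((p : WittVector p k) ^ c) he
          rwa [smul_eq_alg_smul, map_pow, map_natCast, smul_smul, ← zpow_natCast,
            ← zpow_add₀ pL_ne_zero, show (c : ℤ) + e = ((c + e : ℕ) : ℤ) by push_cast; ring] at this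
      | smul l x _ hx =>
        obtain ⟨c, hc⟩ := hx
        rcases eq_or_ne l 0 with rfl | hl
        · exact ⟨0, by simp⟩
        obtain ⟨n, u, rfl⟩ := exists_eq_zpow l hl
        refine ⟨c + (-n).toNat, ?_⟩
        obtain ⟨w, hw⟩ := zpow_mem_range (p := p) (k := k) (show (0 : ℤ) ≤ n + (-n).toNat by omega)
        have := M.smul_mem (w * (u : WittVector p k)) hc
        rw [smul_eq_alg_smul, map_mul, hw, smul_smul] at this
        rw [smul_smul]
        convert this using 2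
        rw [Nat.cast_add, zpow_add₀ pL_ne_zero, zpow_add₀ pL_ne_zero]
        ring
    have hxQ : (p : K(p, k)) ^ (c : ℤ) • x ∈ M ⊓ Q.restrictScalars (WittVector p k) :=
      ⟨hc, Q.smul_mem _ hx⟩
    have := (Submodule.span K(p, k) ((M ⊓ Q.restrictScalars (WittVector p k) : Submodule _ N) : Set N)).smul_mem
      ((p : K(p, k)) ^ (-(c : ℤ))) (Submodule.subset_span hxQ)
    rwa [smul_smul, ← zpow_add₀ pL_ne_zero, neg_add_cancel, zpow_zero, one_smul] at this
  · rw [latImg_inf F hF, h, pPow_inf]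
    congr 1
    refine le_antisymm ((latImg_le_iff F).2 fun x hx => ?_) fun x hx => ?_
    · refine mem_pPow.2 (Q.smul_mem _ ?_)
      rw [← restrict_iterate F hQ s ⟨x, hx⟩]
      exact Submodule.coe_mem _
    · have hxQ : x ∈ Q := by
        have := Q.smul_mem ((p : K(p, k)) ^ r) (mem_pPow.1 hx)
        rwa [smul_smul, ← zpow_add₀ pL_ne_zero, add_neg_cancel, zpow_zero, one_smul] at this
      obtain ⟨y, hy⟩ := (restrict_bijective hF hQ).2.iterate s ⟨x, hxQ⟩
      exact (mem_latImg F).2 ⟨y, y.2, by rw [← restrict_iterate F hQ, hy]⟩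

lemma IsoSub.isIsoclinic {P : Submodule K(p, k) N} {μ : ℚ} (hP : IsoSub F P μ)
    (hF : Function.Bijective F) (hs : ∀ x ∈ P, F x ∈ P) : Isoc.IsIsoclinic (F.restrict hs) μ := by
  obtain ⟨-, M, hM, hMP, r, s, hs0, hμ, h⟩ := hP
  refine ⟨M.comap (P.subtype.restrictScalars (WittVector p k)), ⟨?_, ?_⟩, r, s, hs0, hμ, ?_⟩
  · refine Submodule.fg_of_fg_map_injective (P.subtype.restrictScalars (WittVector p k))
      Subtype.val_injective ?_
    haveI : IsNoetherian (WittVector p k) M := isNoetherian_of_fg_of_noetherian M hM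
    exact fg_of_le hM (Submodule.map_comap_le _ _)
  · apply Submodule.map_injective_of_injective (f := P.subtype) Subtype.val_injective
    rw [Submodule.map_span, Submodule.map_top, Submodule.range_subtype]
    refine (congrArg (Submodule.span K(p, k)) (Set.ext fun x => ?_)).trans hMP
    exact ⟨fun ⟨y, hy, e⟩ => e ▸ hy, fun hx => ⟨⟨x, hMP ▸ Submodule.subset_span hx⟩, hx, rfl⟩⟩
  · ext x
    rw [mem_latImg, mem_pPow]
    show _ ↔ (((p : K(p, k)) ^ (-r) • x : P) : N) ∈ M
    rw [Submodule.coe_smul, ← mem_pPow, ← h, mem_latImg]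
    constructor
    · rintro ⟨y, hy, rfl⟩
      exact ⟨y, hy, (restrict_iterate F hs s y).symm⟩
    · rintro ⟨y, hy, e⟩
      refine ⟨⟨y, hMP ▸ Submodule.subset_span hy⟩, hy, Subtype.ext ?_⟩
      rw [restrict_iterate]
      exact e

lemma isoSub_of_isIsoclinic {P : Submodule K(p, k) N} {μ : ℚ} (hs : ∀ x ∈ P, F x ∈ P)
    (h : Isoc.IsIsoclinic (F.restrict hs) μ) : IsoSub F P μ := by
  obtain ⟨M, hM, r, s, hs0, hμ, h⟩ := h
  have h1 : IsoSub (F.restrict hs) ⊤ μ :=
    ⟨fun _ _ => trivial, M, hM.fg, hM.span_eq_top, r, s, hs0, hμ, h⟩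
  simpa using h1.map (F' := F) P.subtype fun x => rfl

lemma isoSub_top_iff {μ : ℚ} : IsoSub F ⊤ μ ↔ Isoc.IsIsoclinic F μ :=
  ⟨fun ⟨_, M, hM, hMP, r, s, hs0, hμ, h⟩ => ⟨M, ⟨hM, hMP⟩, r, s, hs0, hμ, h⟩,
    fun ⟨M, hM, r, s, hs0, hμ, h⟩ => ⟨fun _ _ => trivial, M, hM.fg, hM.span_eq_top, r, s, hs0, hμ, h⟩⟩

/-- The slope of a nonzero isoclinic space is `d/h`. -/
lemma slope_eq_of_isIsoclinic (hF : Function.Bijective F) [Nontrivial N] {μ : ℚ}
    (h : Isoc.IsIsoclinic F μ) {d : ℤ} (hd : DetOrd F d) :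
    μ = (d : ℚ) / Module.finrank K(p, k) N := by
  obtain ⟨M, hM, r, s, hs0, hμ, h⟩ := h
  have := mul_eq_of_latImg_eq hF hM hd h
  rw [← hμ, div_eq_div_iff (Nat.cast_ne_zero.2 hs0.ne')
    (Nat.cast_ne_zero.2 (finrank_pos' (p := p) (k := k) (N := N)).ne')]
  exact_mod_cast (this.trans (mul_comm _ _))

lemma IsoSub.eq_bot (hF : Function.Bijective F) {P : Submodule K(p, k) N} {μ ν : ℚ}
    (h₁ : IsoSub F P μ) (h₂ : IsoSub F P ν) (hne : μ ≠ ν) : P = ⊥ := by
  by_contra hP
  haveI : Nontrivial P := Submodule.nontrivial_iff_ne_bot.2 hP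
  obtain ⟨d, hd⟩ := exists_detOrd (F.restrict h₁.1) (restrict_bijective hF h₁.1)
  exact hne ((slope_eq_of_isIsoclinic (restrict_bijective hF h₁.1) (h₁.isIsoclinic hF h₁.1) hd).trans
    (slope_eq_of_isIsoclinic (restrict_bijective hF h₁.1) (h₂.isIsoclinic hF h₁.1) hd).symm)

lemma slopePart_isoSub (hF : Function.Bijective F) (μ : ℚ) :
    IsoSub F (Isoc.slopePart F μ) μ ∧
      ∀ P, IsoSub F P μ → P ≤ Isoc.slopePart F μ := by
  have hle : ∀ P, IsoSub F P μ → P ≤ Isoc.slopePart F μ := fun P hP =>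
    le_sSup ⟨hP.1, hP.isIsoclinic hF hP.1⟩
  obtain ⟨P, hP, hmax⟩ : ∃ P, IsoSub F P μ ∧ ∀ Q, IsoSub F Q μ → Q ≤ P := by
    classical
    have hbd : ∀ n, (∃ P, IsoSub F P μ ∧ Module.finrank K(p, k) P = n) →
        n ≤ Module.finrank K(p, k) N := by
      rintro n ⟨P, -, rfl⟩
      exact Submodule.finrank_le P
    have h0 : ∃ P, IsoSub F P μ ∧ Module.finrank K(p, k) P = 0 :=
      ⟨⊥, IsoSub.bot μ, finrank_bot _ _⟩
    obtain ⟨P, hP, hPn⟩ := Nat.findGreatest_spec (P := fun n => ∃ P, IsoSub F P μ ∧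
      Module.finrank K(p, k) P = n) (Nat.zero_le (Module.finrank K(p, k) N)) h0
    refine ⟨P, hP, fun Q hQ => ?_⟩
    by_contra hQP
    have hlt : P < P ⊔ Q := left_lt_sup.2 hQP
    have h1 := Submodule.finrank_lt_finrank_of_lt hlt
    have h2 := Nat.le_findGreatest (P := fun n => ∃ P, IsoSub F P μ ∧
      Module.finrank K(p, k) P = n) (hbd _ ⟨_, hP.sup hQ, rfl⟩) ⟨_, hP.sup hQ, rfl⟩
    omega
  have : Isoc.slopePart F μ = P :=
    le_antisymm (sSup_le fun Q ⟨hs, hQ⟩ => hmax Q (isoSub_of_isIsoclinic hs hQ)) (hle P hP)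
  exact ⟨this ▸ hP, hle⟩

/-- Independence of the slope parts. -/
lemma disjoint_slopePart (hF : Function.Bijective F) (μ : ℚ) (s : Finset ℚ) (hμ : μ ∉ s) :
    Disjoint (Isoc.slopePart F μ) (s.sup (Isoc.slopePart F)) := by
  classical
  induction s using Finset.induction_on generalizing μ with
  | empty => simp
  | insert ν s hν ih =>
    rw [Finset.mem_insert, not_or] at hμ
    rw [Finset.sup_insert, disjoint_iff]
    set R := s.sup (Isoc.slopePart F) with hR
    set X := Isoc.slopePart F μ ⊓ (Isoc.slopePart F ν ⊔ R)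
    have hRs : ∀ x ∈ R, F x ∈ R := by
      rw [hR]
      clear hR ih hμ hν X
      induction s using Finset.induction_on with
      | empty => intro x hx; rw [Finset.sup_empty] at hx ⊢; simp_all
      | insert a t _ ih =>
        intro x hx
        rw [Finset.sup_insert] at hx ⊢
        obtain ⟨y, hy, z, hz, rfl⟩ := Submodule.mem_sup.1 hx
        rw [map_add]
        exact Submodule.add_mem_sup ((slopePart_isoSub hF a).1.1 y hy) (ih z hz)
    have hXs : ∀ x ∈ X, F x ∈ X := fun x hx => ⟨(slopePart_isoSub hF μ).1.1 x hx.1, by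
      obtain ⟨y, hy, z, hz, rfl⟩ := Submodule.mem_sup.1 hx.2
      rw [map_add]
      exact Submodule.add_mem_sup ((slopePart_isoSub hF ν).1.1 y hy) (hRs z hz)⟩
    have hX := (slopePart_isoSub hF μ).1.mono hF inf_le_left hXs
    let F' : (N ⧸ R) →ₛₗ[τ] (N ⧸ R) := R.mapQ R F fun x hx => hRs x hx
    have hF' : Function.Bijective F' := by
      refine bijective_of_injective F' ?_
      rw [← LinearMap.ker_eq_bot, Submodule.eq_bot_iff]
      intro x hx
      obtain ⟨x, rfl⟩ := R.mkQ_surjective x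
      have hFx : F x ∈ R := (Submodule.Quotient.mk_eq_zero R).1 hx
      obtain ⟨y, hy⟩ := (restrict_bijective hF hRs).2 ⟨F x, hFx⟩
      have : (y : N) = x := hF.1 (congrArg Subtype.val hy)
      exact (Submodule.Quotient.mk_eq_zero R).2 (this ▸ y.2)
    have h1 := hX.map (F' := F') R.mkQ fun x => rfl
    have h2 : IsoSub F' (X.map R.mkQ) ν := by
      refine ((slopePart_isoSub hF ν).1.map (F' := F') R.mkQ fun x => rfl).mono hF' ?_ h1.1
      calc X.map R.mkQ ≤ (Isoc.slopePart F ν ⊔ R).map R.mkQ := Submodule.map_mono inf_le_right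
        _ = _ := by rw [Submodule.map_sup, Submodule.mkQ_map_self, sup_bot_eq]
    have h3 := h1.eq_bot hF' h2 hμ.1
    rw [← LinearMap.le_ker_iff_map, Submodule.ker_mkQ] at h3
    exact eq_bot_iff.2 ((le_inf inf_le_left h3).trans (ih μ hμ.2).le_bot)

lemma iSupIndep_slopePart (hF : Function.Bijective F) : iSupIndep (Isoc.slopePart F) := by
  classical
  rw [iSupIndep_iff_supIndep]
  exact fun s => Finset.supIndep_iff_disjoint_erase.2 fun μ hμ =>
    disjoint_slopePart hF μ _ (Finset.notMem_erase μ s)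

end Groth.Agent.IsocLib
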