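import Groth.Prelude.Def_Isoc
import Mathlib.RingTheory.WittVector.Complete
import Mathlib.Algebra.Module.PID
import Mathlib.LinearAlgebra.Matrix.NonsingularInverse

/-!
Lattices in isocrystals over a general twist preserving `W`.
-/

set_option autoImplicit false
set_option linter.style.haveILetI false
set_option linter.unusedSectionVars false

open scoped Isocrystal Pointwise

universe u v

namespace Groth.Agent.IsocLib

variable {p : ℕ} [hp : Fact p.Prime] {k : Type u} [Field k] [CharP k p] [PerfectRing k p]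


variable (p k) in
/-- `p` as an element of `L`. -/
noncomputable abbrev pL : K(p, k) := (p : K(p, k))

lemma pL_ne_zero : (p : K(p, k)) ≠ 0 := by
  have h : (p : (WittVector p k)) ≠ 0 := WittVector.p_nonzero p k
  rwa [← map_natCast (algebraMap (WittVector p k) K(p, k)), map_ne_zero_iff _ (IsFractionRing.injective (WittVector p k) K(p, k))]

lemma alg_inj {x y : (WittVector p k)} : algebraMap (WittVector p k) K(p, k) x = algebraMap (WittVector p k) K(p, k) y ↔ x = y :=
  (IsFractionRing.injective (WittVector p k) K(p, k)).eq_iff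

lemma isUnit_iff_coeff_zero {w : (WittVector p k)} : IsUnit w ↔ w.coeff 0 ≠ 0 :=
  ⟨fun h e => by
    have := h.map (WittVector.constantCoeff : (WittVector p k) →+* k)
    exact this.ne_zero e, WittVector.isUnit_of_coeff_zero_ne_zero w⟩

lemma exists_eq_zpow (x : K(p, k)) (hx : x ≠ 0) :
    ∃ (n : ℤ) (u : (WittVector p k)ˣ), x = (p : K(p, k)) ^ n * algebraMap (WittVector p k) K(p, k) u := by
  obtain ⟨a, b, hb, rfl⟩ := IsFractionRing.div_surjective (A := (WittVector p k)) x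
  have hb0 : b ≠ 0 := nonZeroDivisors.ne_zero hb
  have ha0 : a ≠ 0 := fun h => hx (by simp [h])
  obtain ⟨m, a', rfl⟩ := WittVector.exists_eq_pow_p_mul' a ha0
  obtain ⟨n, b', rfl⟩ := WittVector.exists_eq_pow_p_mul' b hb0
  refine ⟨(m : ℤ) - n, a' * b'⁻¹, ?_⟩
  simp only [Units.val_mul, map_mul, map_pow, map_natCast,
    zpow_sub₀ (pL_ne_zero (p := p) (k := k)), zpow_natCast]
  rw [mul_div_mul_comm, div_eq_mul_inv (algebraMap (WittVector p k) K(p, k) (a' : (WittVector p k)))]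
  congr 2
  exact inv_eq_of_mul_eq_one_right (by rw [← map_mul, Units.mul_inv, map_one])

lemma zpow_mem_range {n : ℤ} (hn : 0 ≤ n) : ∃ w : (WittVector p k), algebraMap (WittVector p k) K(p, k) w = (p : K(p, k)) ^ n :=
  ⟨(p : (WittVector p k)) ^ n.toNat, by rw [map_pow, map_natCast, ← zpow_natCast, Int.toNat_of_nonneg hn]⟩

lemma eq_zero_of_forall_pow_dvd {w : (WittVector p k)} (h : ∀ n : ℕ, (p : (WittVector p k)) ^ n ∣ w) : w = 0 := by
  by_contra h0
  obtain ⟨m, u, rfl⟩ := WittVector.exists_eq_pow_p_mul' w h0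
  have h1 := h (m + 1)
  rw [pow_succ] at h1
  have h2 : (p : (WittVector p k)) ∣ (u : (WittVector p k)) := (mul_dvd_mul_iff_left (pow_ne_zero m (WittVector.p_nonzero p k))).1 h1
  exact (WittVector.irreducible p).not_isUnit (isUnit_of_dvd_unit h2 u.isUnit)

lemma unit_zpow_mem {n : ℤ} {u : (WittVector p k)ˣ} {w : (WittVector p k)}
    (h : (p : K(p, k)) ^ n * algebraMap (WittVector p k) K(p, k) u = algebraMap (WittVector p k) K(p, k) w) : 0 ≤ n := by
  by_contra hn
  have h' : algebraMap (WittVector p k) K(p, k) ((p : (WittVector p k)) ^ (-n).toNat * w) = algebraMap (WittVector p k) K(p, k) (u : (WittVector p k)) := by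
    rw [map_mul, ← h, map_pow, map_natCast, ← zpow_natCast, Int.toNat_of_nonneg (by omega),
      ← mul_assoc, ← zpow_add₀ pL_ne_zero, neg_add_cancel, zpow_zero, one_mul]
  have h'' := alg_inj.1 h'
  refine (WittVector.irreducible p).not_isUnit (isUnit_of_dvd_unit ?_ u.isUnit)
  rw [← h'']
  exact (dvd_pow_self _ (by omega)).mul_right w

lemma isOrdP_unique {c : K(p, k)} {r r' : ℤ} (h : Isoc.IsOrdP c r) (h' : Isoc.IsOrdP c r') : r = r' := by
  obtain ⟨u, rfl⟩ := h
  obtain ⟨u', hu'⟩ := h'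
  have key : ∀ (r r' : ℤ) (u u' : (WittVector p k)ˣ), (p : K(p, k)) ^ r * algebraMap (WittVector p k) K(p, k) u = (p : K(p, k)) ^ r' * algebraMap (WittVector p k) K(p, k) u' →
      r' ≤ r := fun r r' u u' h => by
    refine sub_nonneg.1 (unit_zpow_mem (u := u) (w := (u' : (WittVector p k))) ?_)
    rw [sub_eq_neg_add, zpow_add₀ pL_ne_zero, mul_assoc, h, ← mul_assoc, ← zpow_add₀ pL_ne_zero,
      neg_add_cancel, zpow_zero, one_mul]
  exact le_antisymm (key r' r u' u hu'.symm) (key r r' u u' hu')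

lemma isOrdP_mul {c c' : K(p, k)} {r r' : ℤ} (h : Isoc.IsOrdP c r) (h' : Isoc.IsOrdP c' r') :
    Isoc.IsOrdP (c * c') (r + r') := by
  obtain ⟨u, rfl⟩ := h
  obtain ⟨u', rfl⟩ := h'
  exact ⟨u * u', by rw [zpow_add₀ pL_ne_zero, Units.val_mul, map_mul]; ring⟩

lemma isOrdP_exists {c : K(p, k)} (h : c ≠ 0) : ∃ r, Isoc.IsOrdP c r := by
  obtain ⟨n, u, hu⟩ := exists_eq_zpow c h
  exact ⟨n, u, hu⟩

lemma isOrdP_ne_zero {c : K(p, k)} {r : ℤ} (h : Isoc.IsOrdP c r) : c ≠ 0 := by
  obtain ⟨u, rfl⟩ := h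
  exact mul_ne_zero (zpow_ne_zero _ pL_ne_zero) (fun e => u.ne_zero (alg_inj.1 (e.trans (map_zero _).symm)))

lemma isOrdP_zpow (r : ℤ) : Isoc.IsOrdP ((p : K(p, k)) ^ r) r := ⟨1, by simp⟩

/-! ### Twists preserving `W` -/

/-- The twist restricts to an automorphism of `W`. -/
class WPres (τ : K(p, k) →+* K(p, k)) : Prop where
  exists_equiv : ∃ σ : (WittVector p k) ≃+* (WittVector p k), ∀ w, τ (algebraMap (WittVector p k) K(p, k) w) = algebraMap (WittVector p k) K(p, k) (σ w)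

variable (τ : K(p, k) →+* K(p, k)) [hτ : WPres τ]

/-- The restriction to `W`. -/
noncomputable def tauW : (WittVector p k) ≃+* (WittVector p k) := hτ.exists_equiv.choose

@[simp] lemma tau_alg (w : (WittVector p k)) : τ (algebraMap (WittVector p k) K(p, k) w) = algebraMap (WittVector p k) K(p, k) (tauW τ w) :=
  hτ.exists_equiv.choose_spec w

lemma tau_p (n : ℤ) : τ ((p : K(p, k)) ^ n) = (p : K(p, k)) ^ n := by rw [map_zpow₀, map_natCast]

lemma isOrdP_tau {c : K(p, k)} {r : ℤ} (h : Isoc.IsOrdP c r) : Isoc.IsOrdP (τ c) r := by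
  obtain ⟨u, rfl⟩ := h
  refine ⟨Units.map (tauW τ).toRingHom.toMonoidHom u, ?_⟩
  rw [map_mul, tau_p, tau_alg]
  rfl

instance wpres_frob (a : ℤ) : WPres (Isoc.frob p k a) :=
  ⟨⟨WittVector.frobeniusEquiv p k ^ a, fun w => Isoc.frob_algebraMap p k a w⟩⟩

instance wpres_pow (n : ℕ) : WPres (τ ^ n) := ⟨⟨tauW τ ^ n, fun w => by
  induction n generalizing w with
  | zero => rfl
  | succ n ih =>
    rw [pow_succ', pow_succ', RingHom.coe_mul, Function.comp_apply, ih, tau_alg]
    rfl⟩⟩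

lemma tau_surjective : Function.Surjective τ := by
  intro x
  rcases eq_or_ne x 0 with rfl | hx
  · exact ⟨0, map_zero τ⟩
  obtain ⟨n, u, rfl⟩ := exists_eq_zpow x hx
  exact ⟨(p : K(p, k)) ^ n * algebraMap (WittVector p k) K(p, k) ((tauW τ).symm u),
    by rw [map_mul, tau_p, tau_alg, RingEquiv.apply_symm_apply]⟩

instance : RingHomSurjective τ := ⟨tau_surjective τ⟩

/-! ### Submodules -/

variable {N : Type v} [AddCommGroup N] [Module (WittVector p k) N] [Module K(p, k) N] [IsScalarTower (WittVector p k) K(p, k) N]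
variable {τ}

lemma smul_eq_alg_smul (w : (WittVector p k)) (x : N) : w • x = algebraMap (WittVector p k) K(p, k) w • x :=
  (algebraMap_smul K(p, k) w x).symm

lemma mem_pPow {r : ℤ} {M : Submodule (WittVector p k) N} {x : N} :
    x ∈ Isoc.pPow r M ↔ (p : K(p, k)) ^ (-r) • x ∈ M := by
  rw [Isoc.pPow, ← SetLike.mem_coe, Submodule.coe_pointwise_smul,
    Set.mem_smul_set_iff_inv_smul_mem₀ (zpow_ne_zero r pL_ne_zero), zpow_neg, SetLike.mem_coe]

lemma smul_mem_pPow {r : ℤ} {M : Submodule (WittVector p k) N} {x : N} (hx : x ∈ M) :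
    (p : K(p, k)) ^ r • x ∈ Isoc.pPow r M := by
  rw [mem_pPow, smul_smul, ← zpow_add₀ pL_ne_zero, neg_add_cancel, zpow_zero, one_smul]
  exact hx

lemma pPow_zero (M : Submodule (WittVector p k) N) : Isoc.pPow 0 M = M := by
  ext x; rw [mem_pPow, neg_zero, zpow_zero, one_smul]

lemma pPow_pPow (r s : ℤ) (M : Submodule (WittVector p k) N) :
    Isoc.pPow r (Isoc.pPow s M) = Isoc.pPow (r + s) M := by
  ext x
  rw [mem_pPow, mem_pPow, mem_pPow, smul_smul, ← zpow_add₀ pL_ne_zero,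
    show -s + -r = -(r + s) by ring]

lemma pPow_mono {r : ℤ} {M M' : Submodule (WittVector p k) N} (h : M ≤ M') : Isoc.pPow r M ≤ Isoc.pPow r M' :=
  fun x hx => mem_pPow.2 (h (mem_pPow.1 hx))

lemma pPow_anti {r r' : ℤ} (h : r ≤ r') (M : Submodule (WittVector p k) N) :
    Isoc.pPow r' M ≤ Isoc.pPow r M := fun x hx => by
  rw [mem_pPow] at hx ⊢
  obtain ⟨w, hw⟩ := zpow_mem_range (p := p) (k := k) (sub_nonneg.2 h)
  rw [show -r = (r' - r) + -r' by ring, zpow_add₀ pL_ne_zero, ← smul_smul, ← hw, algebraMap_smul]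
  exact M.smul_mem _ hx

lemma pPow_le_self {r : ℤ} (h : 0 ≤ r) (M : Submodule (WittVector p k) N) : Isoc.pPow r M ≤ M :=
  (pPow_anti h M).trans (pPow_zero M).le

lemma pPow_sup (r : ℤ) (M M' : Submodule (WittVector p k) N) :
    Isoc.pPow r (M ⊔ M') = Isoc.pPow r M ⊔ Isoc.pPow r M' := Submodule.smul_sup' _ M M'

lemma pPow_inf (r : ℤ) (M M' : Submodule (WittVector p k) N) :
    Isoc.pPow r (M ⊓ M') = Isoc.pPow r M ⊓ Isoc.pPow r M' := by
  ext x; simp only [Submodule.mem_inf, mem_pPow]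

lemma pPow_le_pPow_iff {r : ℤ} {M M' : Submodule (WittVector p k) N} :
    Isoc.pPow r M ≤ Isoc.pPow r M' ↔ M ≤ M' := by
  refine ⟨fun h x hx => ?_, pPow_mono⟩
  have := h (smul_mem_pPow (r := r) hx)
  rwa [mem_pPow, smul_smul, ← zpow_add₀ pL_ne_zero, neg_add_cancel, zpow_zero, one_smul] at this

lemma isLattice_pPow (r : ℤ) {M : Submodule (WittVector p k) N} (hM : M.IsLattice K(p, k)) :
    (Isoc.pPow r M).IsLattice K(p, k) :=
  Submodule.IsLattice.smul K(p, k) M (Units.mk0 ((p : K(p, k)) ^ r) (zpow_ne_zero r pL_ne_zero))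

lemma exists_zpow_smul_mem {M : Submodule (WittVector p k) N} (hM : M.IsLattice K(p, k)) (x : N) :
    ∃ c : ℕ, x ∈ Isoc.pPow (-(c : ℤ)) M := by
  have hx : x ∈ Submodule.span K(p, k) (M : Set N) := hM.span_eq_top ▸ Submodule.mem_top
  induction hx using Submodule.span_induction with
  | mem x hx => exact ⟨0, by simpa [pPow_zero] using hx⟩
  | zero => exact ⟨0, zero_mem _⟩
  | add x y _ _ hx hy =>
    obtain ⟨c, hc⟩ := hx
    obtain ⟨d, hd⟩ := hy
    exact ⟨max c d, add_mem (pPow_anti (by omega) M hc) (pPow_anti (by omega) M hd)⟩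
  | smul l x _ hx =>
    obtain ⟨c, hc⟩ := hx
    rcases eq_or_ne l 0 with rfl | hl
    · exact ⟨0, by simp⟩
    obtain ⟨n, u, rfl⟩ := exists_eq_zpow l hl
    refine ⟨c + (-n).toNat, ?_⟩
    have h1 : algebraMap (WittVector p k) K(p, k) u • x ∈ Isoc.pPow (-(c : ℤ)) M := by
      rw [algebraMap_smul]; exact Submodule.smul_mem _ _ hc
    have h2 := smul_mem_pPow (r := n) h1
    rw [pPow_pPow] at h2
    rw [← smul_smul]
    exact pPow_anti (by omega) M h2

lemma exists_le_pPow {M M' : Submodule (WittVector p k) N} (hM : M.IsLattice K(p, k)) (hM' : M'.FG) :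
    ∃ c : ℕ, M' ≤ Isoc.pPow (-(c : ℤ)) M := by
  obtain ⟨S, rfl⟩ := hM'
  choose c hc using fun x => exists_zpow_smul_mem hM x
  exact ⟨S.sup c, Submodule.span_le.2 fun x hx =>
    pPow_anti (by simpa using Finset.le_sup (f := c) hx) M (hc x)⟩

lemma eq_zero_of_forall_mem_pPow {M : Submodule (WittVector p k) N} (hM : M.IsLattice K(p, k)) {x : N}
    (h : ∀ n : ℕ, x ∈ Isoc.pPow (n : ℤ) M) : x = 0 := by
  haveI := hM
  let e := Module.Free.chooseBasis (WittVector p k) M
  have hx : x ∈ M := pPow_le_self le_rfl M (h 0)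
  have : (⟨x, hx⟩ : M) = 0 := e.repr.injective (Finsupp.ext fun i => by
    rw [map_zero, Finsupp.zero_apply]
    refine eq_zero_of_forall_pow_dvd fun n => ?_
    have hn := mem_pPow.1 (h n)
    have : (⟨x, hx⟩ : M) = (p : (WittVector p k)) ^ n • ⟨_, hn⟩ := Subtype.ext (by
      show x = (p : (WittVector p k)) ^ n • ((p : K(p, k)) ^ (-(n : ℤ)) • x)
      rw [smul_eq_alg_smul, map_pow, map_natCast, smul_smul, ← zpow_natCast,
        ← zpow_add₀ pL_ne_zero, add_neg_cancel, zpow_zero, one_smul])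
    rw [this, map_smul, Finsupp.smul_apply, smul_eq_mul]
    exact dvd_mul_right _ _)
  exact congrArg Subtype.val this

lemma lattice_ne_bot [Nontrivial N] {M : Submodule (WittVector p k) N} (hM : M.IsLattice K(p, k)) :
    ∃ x ∈ M, x ≠ 0 := by
  by_contra h
  push Not at h
  have hb : Submodule.span K(p, k) (M : Set N) ≤ ⊥ := Submodule.span_le.2 fun x hx => by simp [h x hx]
  rw [hM.span_eq_top, top_le_iff] at hb
  exact bot_ne_top hb

/-! ### Images -/

variable (F : N →ₛₗ[τ] N)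

lemma iterate_smul_alg (s : ℕ) (c : K(p, k)) (x : N) : (⇑F)^[s] (c • x) = (τ ^ s) c • (⇑F)^[s] x :=
  (Isoc.iter F s).map_smulₛₗ c x

lemma iterate_smul_zpow (s : ℕ) (r : ℤ) (x : N) :
    (⇑F)^[s] ((p : K(p, k)) ^ r • x) = (p : K(p, k)) ^ r • (⇑F)^[s] x := by
  rw [iterate_smul_alg, tau_p]

lemma mem_latImg {s : ℕ} {M : Submodule (WittVector p k) N} {x : N} :
    x ∈ Isoc.latImg F s M ↔ ∃ y ∈ M, (⇑F)^[s] y = x := by
  let S : Submodule (WittVector p k) N :=
    { carrier := (⇑F)^[s] '' (M : Set N)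
      add_mem' := by
        rintro _ _ ⟨x, hx, rfl⟩ ⟨y, hy, rfl⟩
        exact ⟨x + y, M.add_mem hx hy, (Isoc.iter F s).map_add x y⟩
      zero_mem' := ⟨0, M.zero_mem, (Isoc.iter F s).map_zero⟩
      smul_mem' := by
        rintro w _ ⟨y, hy, rfl⟩
        refine ⟨(tauW (τ ^ s)).symm w • y, M.smul_mem _ hy, ?_⟩
        rw [smul_eq_alg_smul, iterate_smul_alg, tau_alg, RingEquiv.apply_symm_apply,
          algebraMap_smul] }
  rw [show Isoc.latImg F s M = S from Submodule.span_eq S]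
  rfl

lemma apply_mem_latImg {s : ℕ} {M : Submodule (WittVector p k) N} {x : N} (hx : x ∈ M) :
    (⇑F)^[s] x ∈ Isoc.latImg F s M := (mem_latImg F).2 ⟨x, hx, rfl⟩

lemma latImg_le_iff {s : ℕ} {M M' : Submodule (WittVector p k) N} :
    Isoc.latImg F s M ≤ M' ↔ ∀ x ∈ M, (⇑F)^[s] x ∈ M' :=
  ⟨fun h _ hx => h (apply_mem_latImg F hx), fun h x hx => by
    obtain ⟨y, hy, rfl⟩ := (mem_latImg F).1 hx; exact h y hy⟩

lemma latImg_zero (M : Submodule (WittVector p k) N) : Isoc.latImg F 0 M = M := by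
  ext x; simp [mem_latImg]

lemma latImg_latImg (s t : ℕ) (M : Submodule (WittVector p k) N) :
    Isoc.latImg F s (Isoc.latImg F t M) = Isoc.latImg F (s + t) M := by
  ext x
  simp only [mem_latImg, Function.iterate_add_apply]
  exact ⟨fun ⟨y, ⟨z, hz, e⟩, h⟩ => ⟨z, hz, e ▸ h⟩, fun ⟨z, hz, h⟩ => ⟨_, ⟨z, hz, rfl⟩, h⟩⟩

lemma latImg_mono {s : ℕ} {M M' : Submodule (WittVector p k) N} (h : M ≤ M') :
    Isoc.latImg F s M ≤ Isoc.latImg F s M' :=
  (latImg_le_iff F).2 fun _ hx => apply_mem_latImg F (h hx)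

lemma latImg_pPow (s : ℕ) (r : ℤ) (M : Submodule (WittVector p k) N) :
    Isoc.latImg F s (Isoc.pPow r M) = Isoc.pPow r (Isoc.latImg F s M) := by
  ext x
  rw [mem_pPow, mem_latImg, mem_latImg]
  constructor
  · rintro ⟨y, hy, rfl⟩
    exact ⟨_, mem_pPow.1 hy, iterate_smul_zpow F s (-r) y⟩
  · rintro ⟨y, hy, h⟩
    refine ⟨(p : K(p, k)) ^ r • y, smul_mem_pPow hy, ?_⟩
    rw [iterate_smul_zpow, h, smul_smul, ← zpow_add₀ pL_ne_zero, add_neg_cancel, zpow_zero, one_smul]

lemma latImg_sup (s : ℕ) (M M' : Submodule (WittVector p k) N) :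
    Isoc.latImg F s (M ⊔ M') = Isoc.latImg F s M ⊔ Isoc.latImg F s M' := by
  refine le_antisymm ((latImg_le_iff F).2 fun x hx => ?_)
    (sup_le (latImg_mono F le_sup_left) (latImg_mono F le_sup_right))
  obtain ⟨y, hy, z, hz, rfl⟩ := Submodule.mem_sup.1 hx
  show (Isoc.iter F s) (y + z) ∈ _
  rw [map_add]
  exact Submodule.add_mem_sup (apply_mem_latImg F hy) (apply_mem_latImg F hz)

lemma iterate_injective (hF : Function.Bijective F) (s : ℕ) : Function.Injective (⇑F)^[s] :=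
  hF.1.iterate s

lemma latImg_inf (hF : Function.Bijective F) (s : ℕ) (M M' : Submodule (WittVector p k) N) :
    Isoc.latImg F s (M ⊓ M') = Isoc.latImg F s M ⊓ Isoc.latImg F s M' := by
  refine le_antisymm (le_inf (latImg_mono F inf_le_left) (latImg_mono F inf_le_right)) fun x hx => ?_
  obtain ⟨y, hy, rfl⟩ := (mem_latImg F).1 hx.1
  obtain ⟨z, hz, h⟩ := (mem_latImg F).1 hx.2
  exact apply_mem_latImg F ⟨hy, iterate_injective F hF s h ▸ hz⟩

lemma latImg_fg (s : ℕ) {M : Submodule (WittVector p k) N} (hM : M.FG) : (Isoc.latImg F s M).FG := by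
  obtain ⟨S, rfl⟩ := hM
  classical
  refine ⟨S.image ((⇑F)^[s]), le_antisymm (Submodule.span_le.2 fun x hx => ?_) ?_⟩
  · obtain ⟨y, hy, rfl⟩ := Finset.mem_image.1 (by simpa using hx)
    exact apply_mem_latImg F (Submodule.subset_span hy)
  · refine (latImg_le_iff F).2 fun x hx => ?_
    induction hx using Submodule.span_induction with
    | mem x hx => exact Submodule.subset_span (by simpa using ⟨x, hx, rfl⟩)
    | zero => rw [show (⇑F)^[s] 0 = 0 from (Isoc.iter F s).map_zero]; exact zero_mem _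
    | add x y _ _ hx hy =>
      rw [show (⇑F)^[s] (x + y) = _ from (Isoc.iter F s).map_add x y]; exact add_mem hx hy
    | smul w x _ hx =>
      rw [smul_eq_alg_smul, iterate_smul_alg, tau_alg, algebraMap_smul]
      exact Submodule.smul_mem _ _ hx

lemma isLattice_latImg (hF : Function.Bijective F) (s : ℕ) {M : Submodule (WittVector p k) N}
    (hM : M.IsLattice K(p, k)) : (Isoc.latImg F s M).IsLattice K(p, k) := by
  refine ⟨latImg_fg F s hM.fg, eq_top_iff.2 fun x _ => ?_⟩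
  obtain ⟨y, rfl⟩ := hF.2.iterate s x
  obtain ⟨c, hc⟩ := exists_zpow_smul_mem hM y
  have h := smul_mem_pPow (r := (c : ℤ)) hc
  rw [pPow_pPow, add_neg_cancel, pPow_zero] at h
  have h' := apply_mem_latImg F (s := s) h
  rw [iterate_smul_zpow] at h'
  have h'' : (p : K(p, k)) ^ (-(c : ℤ)) • (p : K(p, k)) ^ (c : ℤ) • (⇑F)^[s] y ∈
      Submodule.span K(p, k) (Isoc.latImg F s M : Set N) :=
    Submodule.smul_mem _ _ (Submodule.subset_span h')
  rwa [smul_smul, ← zpow_add₀ pL_ne_zero, neg_add_cancel, zpow_zero, one_smul] at h''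

/-- The twisted iterate `p^m F^n`. -/
noncomputable abbrev twist (m : ℤ) (n : ℕ) : N →ₛₗ[τ ^ n] N := (p : K(p, k)) ^ m • Isoc.iter F n

lemma twist_apply (m : ℤ) (n : ℕ) (x : N) : twist F m n x = (p : K(p, k)) ^ m • (⇑F)^[n] x := rfl

lemma twist_bijective (hF : Function.Bijective F) (m : ℤ) (n : ℕ) :
    Function.Bijective (twist F m n) := by
  refine Function.Bijective.comp (g := fun x : N => (p : K(p, k)) ^ m • x)
    (MulAction.bijective₀ (zpow_ne_zero m pL_ne_zero)) (hF.iterate n)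

lemma twist_iterate (m : ℤ) (n j : ℕ) (x : N) :
    (⇑(twist F m n))^[j] x = (p : K(p, k)) ^ (m * j) • (⇑F)^[n * j] x := by
  induction j generalizing x with
  | zero => simp
  | succ j ih =>
    rw [Function.iterate_succ_apply', ih, twist_apply, iterate_smul_zpow, smul_smul,
      ← zpow_add₀ pL_ne_zero, ← Function.iterate_add_apply]
    congr 2
    · push_cast; ring
    · ring

lemma latImg_twist (m : ℤ) (n j : ℕ) (M : Submodule (WittVector p k) N) :
    Isoc.latImg (twist F m n) j M = Isoc.pPow (m * j) (Isoc.latImg F (n * j) M) := by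
  ext x
  rw [mem_latImg, mem_pPow, mem_latImg]
  constructor
  · rintro ⟨y, hy, rfl⟩
    refine ⟨y, hy, ?_⟩
    rw [twist_iterate, smul_smul, ← zpow_add₀ pL_ne_zero, neg_add_cancel, zpow_zero, one_smul]
  · rintro ⟨y, hy, h⟩
    refine ⟨y, hy, ?_⟩
    rw [twist_iterate, h, smul_smul, ← zpow_add₀ pL_ne_zero, add_neg_cancel, zpow_zero, one_smul]

end Groth.Agent.IsocLib
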