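import Groth.Agent.IsocLib.Sum
import Mathlib.LinearAlgebra.Charpoly.ToMatrix
import Mathlib.LinearAlgebra.Charpoly.Basic
import Mathlib.LinearAlgebra.Matrix.Charpoly.Coeff
import Mathlib.LinearAlgebra.Matrix.Charpoly.Eigs
import Mathlib.FieldTheory.IsAlgClosed.Spectrum
import Mathlib.RingTheory.IntegralClosure.IntegrallyClosed

/-!
Newton slopes and the characteristic polynomial of a linear power of `F`.
-/

set_option autoImplicit false
set_option linter.style.haveILetI false
set_option linter.unusedSectionVars false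

open scoped Isocrystal Pointwise Polynomial

universe u v w

namespace Groth.Agent.IsocLib

variable {p : ℕ} [hp : Fact p.Prime] {k : Type u} [Field k] [CharP k p] [PerfectRing k p]
variable {τ : K(p, k) →+* K(p, k)} [WPres τ]
variable {N : Type v} [AddCommGroup N] [Module (WittVector p k) N] [Module K(p, k) N]
  [IsScalarTower (WittVector p k) K(p, k) N] [Module.Finite K(p, k) N]
variable (Ω : Type w) [Field Ω] [IsAlgClosed Ω] [Algebra (WittVector p k) Ω] [Algebra K(p, k) Ω]
  [IsScalarTower (WittVector p k) K(p, k) Ω]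

/-- `p` in `Ω`. -/
noncomputable abbrev pΩ : Ω := algebraMap K(p, k) Ω (p : K(p, k))

/-- Integral with integral inverse. -/
def IsUnitInt (x : Ω) : Prop :=
  IsIntegral (WittVector p k) x ∧ IsIntegral (WittVector p k) x⁻¹

variable {Ω}

lemma isUnitInt_of_pow {x : Ω} {t : ℕ} (ht : 0 < t) (h : IsUnitInt (p := p) (k := k) Ω (x ^ t)) :
    IsUnitInt (p := p) (k := k) Ω x :=
  ⟨IsIntegral.of_pow ht h.1, IsIntegral.of_pow ht (by rw [inv_pow]; exact h.2)⟩

lemma exists_root_isUnitInt {F : N →ₛₗ[τ] N} (hF : Function.Bijective F) (π : N →ₗ[K(p, k)] N)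
    {m : ℕ} (hπ : ∀ x, π x = (⇑F)^[m] x) {M : Submodule (WittVector p k) N}
    (hM : M.IsLattice K(p, k)) {r : ℤ} {s : ℕ} (hs : 0 < s)
    (hFM : Isoc.latImg F s M = Isoc.pPow r M) {α : Ω}
    (hα : α ∈ (π.charpoly.map (algebraMap K(p, k) Ω)).roots) :
    IsUnitInt (p := p) (k := k) Ω (α ^ s * (pΩ (p := p) (k := k) Ω) ^ (-(r * (m : ℤ)))) := by
  classical
  haveI := hM
  set c : K(p, k) := (p : K(p, k)) ^ (-(r * (m : ℤ))) with hc
  set T : Module.End K(p, k) N := c • (π : Module.End K(p, k) N) ^ s with hTdef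
  have hπs : ∀ (j : ℕ) (x : N), ((π : Module.End K(p, k) N) ^ j) x = (⇑F)^[m * j] x := by
    intro j
    induction j with
    | zero => intro x; simp
    | succ j ih =>
      intro x
      rw [pow_succ', Module.End.mul_apply, ih, hπ, ← Function.iterate_add_apply,
        show m + m * j = m * (j + 1) by ring]
  have hTM : ∀ x ∈ M, T x ∈ M := fun x hx => by
    show c • ((π : Module.End K(p, k) N) ^ s) x ∈ M
    rw [hπs, hc, ← mem_pPow, show r * (m : ℤ) = (m : ℤ) * r by ring, ← latImg_mul_eq hFM m]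
    exact apply_mem_latImg F hx
  let T₀ : M →ₗ[WittVector p k] M := (T.restrictScalars (WittVector p k)).restrict hTM
  have hT₀ : Function.Bijective T₀ := by
    refine ⟨fun x y hxy => Subtype.ext ?_, fun x => ?_⟩
    · have h1 : c • (⇑F)^[m * s] (x : N) = c • (⇑F)^[m * s] (y : N) := by
        rw [← hπs, ← hπs]
        exact congrArg Subtype.val hxy
      exact iterate_injective F hF (m * s) (smul_right_injective N (zpow_ne_zero _ pL_ne_zero) h1)
    · have h1 := smul_mem_pPow (r := (m : ℤ) * r) x.2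
      rw [← latImg_mul_eq hFM m] at h1
      obtain ⟨y, hy, e⟩ := (mem_latImg F).1 h1
      refine ⟨⟨y, hy⟩, Subtype.ext ?_⟩
      show c • ((π : Module.End K(p, k) N) ^ s) y = x
      rw [hπs, e, hc, smul_smul, ← zpow_add₀ pL_ne_zero,
        show -(r * (m : ℤ)) + (m : ℤ) * r = 0 by ring, zpow_zero, one_smul]
  set g := T₀.charpoly with hg
  have hg0 : IsUnit (g.coeff 0) := by
    let b := Module.Free.chooseBasis (WittVector p k) M
    have h1 : IsUnit (LinearMap.toMatrix b b T₀).det := by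
      rw [LinearMap.det_toMatrix]
      exact (LinearEquiv.ofBijective T₀ hT₀).isUnit_det'
    rw [Matrix.det_eq_sign_charpoly_coeff, LinearMap.charpoly_toMatrix] at h1
    exact (IsUnit.mul_iff.1 h1).2
  have hTg : Polynomial.aeval T (g.map (algebraMap (WittVector p k) K(p, k))) = 0 := by
    refine LinearMap.ext_on hM.span_eq_top fun x hx => ?_
    have key : ∀ (q : (WittVector p k)[X]) (y : M),
        (Polynomial.aeval T (q.map (algebraMap (WittVector p k) K(p, k)))) (y : N) =
          ((Polynomial.aeval T₀ q) y : N) := by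
      intro q
      induction q using Polynomial.induction_on with
      | C a => intro y; simp [Module.algebraMap_end_apply]
      | add q q' hq hq' =>
        intro y
        rw [Polynomial.map_add, map_add, map_add, LinearMap.add_apply, LinearMap.add_apply, hq, hq',
          Submodule.coe_add]
      | monomial n a h =>
        intro y
        rw [pow_succ, ← mul_assoc, Polynomial.map_mul, Polynomial.map_X, map_mul, map_mul,
          Polynomial.aeval_X, Polynomial.aeval_X, Module.End.mul_apply, Module.End.mul_apply]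
        exact h (T₀ y)
    rw [key g ⟨x, hx⟩, LinearMap.aeval_self_charpoly]
    rfl
  let Q : (K(p, k))[X] :=
    (g.map (algebraMap (WittVector p k) K(p, k))).comp (Polynomial.C c * Polynomial.X ^ s)
  have hQ : Polynomial.aeval (π : Module.End K(p, k) N) Q = 0 := by
    rw [Polynomial.aeval_comp]
    convert hTg using 2
    simp [hTdef, Algebra.smul_def]
  -- transfer to matrices over `Ω`
  let B := Module.finBasis K(p, k) N
  let A : Matrix _ _ Ω := (LinearMap.toMatrix B B π).map (algebraMap K(p, k) Ω)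
  have hroot : Polynomial.IsRoot A.charpoly α := by
    rw [Matrix.charpoly_map, LinearMap.charpoly_toMatrix]
    exact (Polynomial.mem_roots'.1 hα).2
  have hspec : α ∈ spectrum Ω A := Matrix.mem_spectrum_iff_isRoot_charpoly.2 hroot
  have hA : Polynomial.aeval A (Q.map (algebraMap K(p, k) Ω)) = 0 := by
    rw [Polynomial.aeval_map_algebraMap]
    have h1 : Polynomial.aeval (LinearMap.toMatrix B B π) Q = 0 := by
      have := congrArg (LinearMap.toMatrixAlgEquiv B) hQ
      rwa [map_zero, ← AlgEquiv.coe_toAlgHom, ← Polynomial.aeval_algHom_apply] at this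
    have := congrArg (Algebra.ofId K(p, k) Ω).mapMatrix h1
    rwa [map_zero, ← Polynomial.aeval_algHom_apply] at this
  have hev : (Q.map (algebraMap K(p, k) Ω)).eval α = 0 := by
    have h1 := spectrum.subset_polynomial_aeval A (Q.map (algebraMap K(p, k) Ω)) ⟨α, hspec, rfl⟩
    rw [hA] at h1
    by_contra hne
    exact (spectrum.mem_iff.1 h1) (by rw [sub_zero]; exact (IsUnit.mk0 _ hne).map _)
  set γ : Ω := α ^ s * (pΩ (p := p) (k := k) Ω) ^ (-(r * (m : ℤ))) with hγdef
  have hγ : Polynomial.aeval γ g = 0 := by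
    rw [← hev]
    simp only [Q, Polynomial.map_comp, Polynomial.eval_comp, Polynomial.map_mul, Polynomial.map_C,
      Polynomial.map_pow, Polynomial.map_X, Polynomial.eval_mul, Polynomial.eval_C,
      Polynomial.eval_pow, Polynomial.eval_X, Polynomial.map_map,
      ← IsScalarTower.algebraMap_eq (WittVector p k) K(p, k) Ω]
    rw [Polynomial.eval_map, Polynomial.aeval_def, hγdef, hc, map_zpow₀, mul_comm]
  refine ⟨⟨g, LinearMap.charpoly_monic T₀, hγ⟩, ?_⟩
  obtain ⟨u, hu⟩ := hg0
  have hγint : IsIntegral (WittVector p k) γ := ⟨g, LinearMap.charpoly_monic T₀, hγ⟩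
  have heq : γ * (Polynomial.aeval γ g.divX * -(algebraMap (WittVector p k) Ω ((u⁻¹ : (WittVector p k)ˣ) : WittVector p k))) = 1 := by
    have h1 := hγ
    rw [← Polynomial.X_mul_divX_add g, map_add, map_mul, Polynomial.aeval_X, Polynomial.aeval_C] at h1
    rw [mul_neg, mul_neg, ← mul_assoc, eq_neg_of_add_eq_zero_left h1, neg_mul, neg_neg, ← map_mul, ← hu,
      Units.mul_inv, map_one]
  rw [inv_eq_of_mul_eq_one_right heq]
  exact (IsIntegral.of_mem_of_fg _ hγint.fg_adjoin_singleton _
    (Polynomial.aeval_mem_adjoin_singleton _ γ)).mul (isIntegral_algebraMap.neg)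

/-- A nonzero power of `p` is not an integral unit. -/
lemma zpow_not_isUnitInt {e : ℤ} (he : e ≠ 0) :
    ¬ IsUnitInt (p := p) (k := k) Ω ((pΩ (p := p) (k := k) Ω) ^ e) := by
  have key : ∀ e : ℤ, IsIntegral (WittVector p k) ((pΩ (p := p) (k := k) Ω) ^ e) → 0 ≤ e := by
    intro e h
    rw [pΩ, ← map_zpow₀, isIntegral_algebraMap_iff (RingHom.injective _)] at h
    obtain ⟨w, hw⟩ := IsIntegrallyClosed.isIntegral_iff.1 h
    refine unit_zpow_mem (u := 1) (w := w) ?_
    rw [Units.val_one, map_one, mul_one, hw]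
  rintro ⟨h1, h2⟩
  rw [← zpow_neg] at h2
  have := key e h1
  have := key (-e) h2
  omega

/-- The predicate of the statement. -/
def HasSlope (Ω : Type w) [Field Ω] [Algebra (WittVector p k) Ω] [Algebra K(p, k) Ω] (m : ℕ) (μ : ℚ) (α : Ω) : Prop :=
  IsIntegral (WittVector p k) (α ^ μ.den * (algebraMap K(p, k) Ω (p : K(p, k))) ^ (-(μ.num * (m : ℤ)))) ∧
  IsIntegral (WittVector p k) (α ^ μ.den * (algebraMap K(p, k) Ω (p : K(p, k))) ^ (-(μ.num * (m : ℤ))))⁻¹

lemma hasSlope_unique {m : ℕ} (hm : m ≠ 0) {μ ν : ℚ} {α : Ω} (hα : α ≠ 0)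
    (h₁ : HasSlope (p := p) (k := k) Ω m μ α) (h₂ : HasSlope (p := p) (k := k) Ω m ν α) : μ = ν := by
  by_contra hne
  have hcross : ν.num * (μ.den : ℤ) - μ.num * ν.den ≠ 0 := fun h => hne (by
    rw [← μ.num_div_den, ← ν.num_div_den,
      div_eq_div_iff (Nat.cast_ne_zero.2 μ.den_nz) (Nat.cast_ne_zero.2 ν.den_nz)]
    exact_mod_cast (sub_eq_zero.1 h).symm)
  refine zpow_not_isUnitInt (p := p) (k := k) (Ω := Ω)
    (mul_ne_zero hcross (Nat.cast_ne_zero.2 hm : (m : ℤ) ≠ 0)) ?_
  set P := pΩ (p := p) (k := k) Ω with hP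
  have hP0 : P ≠ 0 := (map_ne_zero_iff _ (RingHom.injective _)).2 pL_ne_zero
  have e : P ^ ((ν.num * (μ.den : ℤ) - μ.num * ν.den) * m) =
      (α ^ μ.den * P ^ (-(μ.num * (m : ℤ)))) ^ ν.den *
        ((α ^ ν.den * P ^ (-(ν.num * (m : ℤ))))⁻¹) ^ μ.den := by
    rw [inv_pow, ← div_eq_mul_inv, mul_pow, mul_pow, ← pow_mul, ← pow_mul, mul_comm ν.den μ.den,
      mul_div_mul_left _ _ (pow_ne_zero _ hα), ← zpow_natCast (P ^ _), ← zpow_natCast (P ^ _),
      ← zpow_mul, ← zpow_mul, ← zpow_sub₀ hP0]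
    congr 1
    ring
  rw [e]
  refine ⟨(h₁.1.pow _).mul (h₂.2.pow _), ?_⟩
  rw [mul_inv, ← inv_pow, ← inv_pow, inv_inv]
  exact (h₁.2.pow _).mul (h₂.1.pow _)

end Groth.Agent.IsocLib
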