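import Groth.Agent.IsocLib.Roots

/-!
Counting roots of the characteristic polynomial by slope.
-/

set_option autoImplicit false
set_option linter.style.haveILetI false
set_option linter.unusedSectionVars false

open scoped Isocrystal Pointwise Polynomial

universe u v w

namespace Groth.Agent.IsocLib

variable {p : ℕ} [hp : Fact p.Prime] {k : Type u} [Field k] [CharP k p] [PerfectRing k p]
variable {τ : K(p, k) →+* K(p, k)} [WPres τ]
variable {N : Type v} [AddCommGroup N] [Module (WittVector p k) N] [Module K(p, k) N]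
  [IsScalarTower (WittVector p k) K(p, k) N] [Module.Finite K(p, k) N]
variable {Ω : Type w} [Field Ω] [IsAlgClosed Ω] [Algebra (WittVector p k) Ω] [Algebra K(p, k) Ω]
  [IsScalarTower (WittVector p k) K(p, k) Ω]

open scoped Classical in
lemma countP_isoclinic {F : N →ₛₗ[τ] N} (hF : Function.Bijective F) (π : N →ₗ[K(p, k)] N) {m : ℕ}
    (hm : m ≠ 0) (hπ : ∀ x, π x = (⇑F)^[m] x) {ν : ℚ} (hν : Isoc.IsIsoclinic F ν) (μ : ℚ) :
    Multiset.countP (HasSlope (p := p) (k := k) Ω m μ)
        (π.charpoly.map (algebraMap K(p, k) Ω)).roots =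
      if μ = ν then Module.finrank K(p, k) N else 0 := by
  obtain ⟨M, hM, r, s, hs, hrs, hFM⟩ := hν
  have hπi : Function.Bijective π := by
    rw [show (⇑π) = (⇑F)^[m] from funext hπ]
    exact hF.iterate m
  have h0 : π.charpoly.coeff 0 ≠ 0 := by
    intro h
    let b := Module.finBasis K(p, k) N
    have h1 : IsUnit (LinearMap.toMatrix b b π).det := by
      rw [LinearMap.det_toMatrix]
      exact (LinearEquiv.ofBijective π hπi).isUnit_det'
    rw [Matrix.det_eq_sign_charpoly_coeff, LinearMap.charpoly_toMatrix, h, mul_zero] at h1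
    exact not_isUnit_zero h1
  have hslope : ∀ α ∈ (π.charpoly.map (algebraMap K(p, k) Ω)).roots,
      α ≠ 0 ∧ HasSlope (p := p) (k := k) Ω m ν α := by
    intro α hα
    refine ⟨fun h => ?_, ?_⟩
    · subst h
      have h2 := (Polynomial.mem_roots'.1 hα).2
      rw [Polynomial.IsRoot, ← Polynomial.coeff_zero_eq_eval_zero, Polynomial.coeff_map,
        map_eq_zero] at h2
      exact h0 h2
    have hγ := exists_root_isUnitInt hF π hπ hM hs hFM hα
    have hrs' : r * (ν.den : ℤ) = ν.num * s := by
      have h1 : (r : ℚ) / s = (ν.num : ℚ) / ν.den := hrs.trans ν.num_div_den.symm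
      rw [div_eq_div_iff (Nat.cast_ne_zero.2 hs.ne') (Nat.cast_ne_zero.2 ν.den_nz)] at h1
      exact_mod_cast h1
    obtain ⟨t, ht⟩ : ν.den ∣ s := by
      have hc : IsCoprime ν.num (ν.den : ℤ) := Int.isCoprime_iff_gcd_eq_one.2 ν.reduced
      have : (ν.den : ℤ) ∣ (s : ℤ) := hc.symm.dvd_of_dvd_mul_left ⟨r, by rw [← hrs', mul_comm]⟩
      exact_mod_cast this
    have htpos : 0 < t := Nat.pos_of_ne_zero fun h => hs.ne' (by rw [ht, h, mul_zero])
    have hrt : r = ν.num * t := by
      have : r * (ν.den : ℤ) = (ν.num * t) * (ν.den : ℤ) := by rw [hrs', ht]; push_cast; ring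
      exact mul_right_cancel₀ (Nat.cast_ne_zero.2 ν.den_nz) this
    refine isUnitInt_of_pow (p := p) (k := k) htpos ?_
    rw [mul_pow, ← pow_mul, ← ht, ← zpow_natCast (_ ^ (-(ν.num * (m : ℤ)))), ← zpow_mul,
      show -(ν.num * (m : ℤ)) * (t : ℤ) = -(r * (m : ℤ)) by rw [hrt]; ring]
    exact hγ
  split_ifs with hμ
  · subst hμ
    rw [Multiset.countP_eq_card.2 fun α hα => (hslope α hα).2,
      IsAlgClosed.card_roots_eq_natDegree, Polynomial.natDegree_map, LinearMap.charpoly_natDegree]
  · exact Multiset.countP_eq_zero.2 fun α hα h =>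
      hμ (hasSlope_unique hm (hslope α hα).1 h (hslope α hα).2)

open scoped Classical in
theorem countP_slopes {F : N →ₛₗ[τ] N} (hF : Function.Bijective F) (π : N →ₗ[K(p, k)] N) {m : ℕ}
    (hm : m ≠ 0) (hπ : ∀ x, π x = (⇑F)^[m] x) (μ : ℚ) (s : Finset ℚ) :
    ∀ (X : Submodule K(p, k) N), X = s.sup (Isoc.slopePart F) → ∀ (hX : ∀ x ∈ X, π x ∈ X),
      Multiset.countP (HasSlope (p := p) (k := k) Ω m μ)
          ((π.restrict hX).charpoly.map (algebraMap K(p, k) Ω)).roots =
        if μ ∈ s then Isoc.newtonMult F μ else 0 := by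
  have hstab : ∀ (P : Submodule K(p, k) N), (∀ x ∈ P, F x ∈ P) → ∀ x ∈ P, π x ∈ P := fun P hP x hx => by
    rw [hπ, ← restrict_iterate F hP m ⟨x, hx⟩]
    exact Submodule.coe_mem _
  induction s using Finset.induction_on with
  | empty =>
    intro X hXe hX
    rw [Finset.sup_empty] at hXe
    subst hXe
    have h1 : ((π.restrict hX).charpoly.map (algebraMap K(p, k) Ω)).roots.card ≤ 0 := by
      refine (Polynomial.card_roots' _).trans ?_
      rw [Polynomial.natDegree_map, LinearMap.charpoly_natDegree, finrank_bot]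
    simp [Multiset.card_eq_zero.1 (Nat.le_zero.1 h1)]
  | insert ν s hν ih =>
    intro X hXe hX
    rw [Finset.sup_insert] at hXe
    set P := Isoc.slopePart F ν
    set R := s.sup (Isoc.slopePart F) with hR
    have hP := (slopePart_isoSub hF ν).1
    have hRs : ∀ x ∈ R, π x ∈ R := by
      intro x hx
      have h1 : R = ⨆ μ ∈ s, Isoc.slopePart F μ := by rw [hR, Finset.sup_eq_iSup]
      rw [h1] at hx ⊢
      refine Submodule.iSup_induction (motive := fun x => π x ∈ ⨆ μ ∈ s, Isoc.slopePart F μ) _ hx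
        (fun μ y hy => ?_) ?_ (fun y z hy hz => ?_)
      · by_cases hμ : μ ∈ s
        · rw [iSup_pos hμ] at hy
          exact Submodule.mem_iSup_of_mem μ (Submodule.mem_iSup_of_mem hμ
            (hstab _ (slopePart_isoSub hF μ).1.1 y hy))
        · rw [iSup_neg hμ, Submodule.mem_bot] at hy
          rw [hy, map_zero]; exact zero_mem _
      · rw [map_zero]; exact zero_mem _
      · rw [map_add]; exact add_mem hy hz
    let f : (P × R) →ₗ[K(p, k)] X :=
      ((P.subtype.coprod R.subtype).codRestrict X fun x => by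
        rw [hXe]; exact Submodule.add_mem_sup x.1.2 x.2.2)
    have hdisj : Disjoint P R := disjoint_slopePart hF ν s hν
    have hf : Function.Bijective f := by
      refine ⟨(injective_iff_map_eq_zero f).2 fun x hx => ?_, fun x => ?_⟩
      · have h0 : (x.1 : N) + x.2 = 0 := congrArg Subtype.val hx
        have h1 : (x.1 : N) = 0 := Submodule.disjoint_def.1 hdisj _ x.1.2
          (by rw [eq_neg_of_add_eq_zero_left h0]; exact R.neg_mem x.2.2)
        rw [h1, zero_add] at h0
        exact Prod.ext (Subtype.ext h1) (Subtype.ext h0)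
      · obtain ⟨y, hy, z, hz, e⟩ := Submodule.mem_sup.1 (show (x : N) ∈ P ⊔ R by rw [← hXe]; exact x.2)
        exact ⟨(⟨y, hy⟩, ⟨z, hz⟩), Subtype.ext e⟩
    have hconj : π.restrict hX = (LinearEquiv.ofBijective f hf).conj
        ((π.restrict (hstab P hP.1)).prodMap (π.restrict hRs)) := by
      refine LinearMap.ext fun z => ?_
      obtain ⟨x, rfl⟩ := (LinearEquiv.ofBijective f hf).surjective z
      rw [LinearEquiv.conj_apply, LinearMap.comp_apply, LinearMap.comp_apply, LinearEquiv.coe_coe,
        LinearEquiv.coe_coe, LinearEquiv.symm_apply_apply]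
      exact Subtype.ext (map_add π _ _)
    rw [hconj, LinearEquiv.charpoly_conj, LinearMap.charpoly_prodMap, Polynomial.map_mul,
      Polynomial.roots_mul (mul_ne_zero ((LinearMap.charpoly_monic _).map _).ne_zero
        ((LinearMap.charpoly_monic _).map _).ne_zero), Multiset.countP_add, ih R rfl hRs,
      countP_isoclinic (restrict_bijective hF hP.1) (π.restrict (hstab P hP.1)) hm
        (fun x => Subtype.ext (by rw [restrict_iterate, ← hπ]; rfl)) (hP.isIsoclinic hF hP.1) μ]
    rcases eq_or_ne μ ν with rfl | hμ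
    · rw [if_pos rfl, if_neg hν, if_pos (Finset.mem_insert_self μ s), add_zero]
      rfl
    · rw [if_neg hμ, zero_add]
      simp [hμ]

open scoped Classical in
theorem newtonMult_eq_countP {F : N →ₛₗ[τ] N} (hF : Function.Bijective F) (π : N →ₗ[K(p, k)] N)
    {m : ℕ} (hm : m ≠ 0) (hπ : ∀ x, π x = (⇑F)^[m] x) (μ : ℚ) :
    Isoc.newtonMult F μ = Multiset.countP (HasSlope (p := p) (k := k) Ω m μ)
      (π.charpoly.map (algebraMap K(p, k) Ω)).roots := by
  have hfin := WellFoundedGT.finite_ne_bot_of_iSupIndep (iSupIndep_slopePart hF)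
  have hsup : (⊤ : Submodule K(p, k) N) = (insert μ hfin.toFinset).sup (Isoc.slopePart F) := by
    refine le_antisymm ?_ le_top
    rw [← iSup_slopePart hF]
    refine iSup_le fun ν => ?_
    by_cases h : Isoc.slopePart F ν = ⊥
    · rw [h]; exact bot_le
    · exact Finset.le_sup (Finset.mem_insert_of_mem (hfin.mem_toFinset.2 h))
  have h := countP_slopes (Ω := Ω) hF π hm hπ μ _ ⊤ hsup (fun _ _ => trivial)
  rw [if_pos (Finset.mem_insert_self _ _)] at h
  rw [← h]
  congr 3
  rw [← LinearEquiv.charpoly_conj Submodule.topEquiv]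
  congr 1

end Groth.Agent.IsocLib
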