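import Groth.Agent.IsocLib.Det
import Mathlib.Analysis.Subadditive
import Mathlib.NumberTheory.DiophantineApproximation.Basic
import Mathlib.Analysis.SpecificLimits.Basic

/-!
The first Newton slope: existence, independence of the lattice, effectivity, rationality.
-/

set_option autoImplicit false
set_option linter.style.haveILetI false
set_option linter.unusedSectionVars false

open scoped Isocrystal Pointwise Topology
open Filter

universe u v

namespace Groth.Agent.IsocLib

variable {p : ℕ} [hp : Fact p.Prime] {k : Type u} [Field k] [CharP k p] [PerfectRing k p]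
variable {τ : K(p, k) →+* K(p, k)} [WPres τ]
variable {N : Type v} [AddCommGroup N] [Module (WittVector p k) N] [Module K(p, k) N]
  [IsScalarTower (WittVector p k) K(p, k) N] [Module.Finite K(p, k) N]
variable {F : N →ₛₗ[τ] N} (hF : Function.Bijective F)
variable {M : Submodule (WittVector p k) N} (hM : M.IsLattice K(p, k))

section Ord

include hF hM in
lemma mul_le_of_latImg_le {d : ℤ} (hd : DetOrd F d) {s : ℕ} {r : ℤ}
    (h : Isoc.latImg F s M ≤ Isoc.pPow r M) : r * Module.finrank K(p, k) N ≤ s * d :=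
  (le_detOrd_of_latImg_le (F := Isoc.iter F s) (hF.iterate s) (detOrd_iter F hd s) hM h).1

include hF hM in
lemma latImg_eq_of_mul_eq {d : ℤ} (hd : DetOrd F d) {s : ℕ} {r : ℤ}
    (h : Isoc.latImg F s M ≤ Isoc.pPow r M) (he : r * Module.finrank K(p, k) N = s * d) :
    Isoc.latImg F s M = Isoc.pPow r M :=
  (le_detOrd_of_latImg_le (F := Isoc.iter F s) (hF.iterate s) (detOrd_iter F hd s) hM h).2 he

include hF hM in
lemma mul_eq_of_latImg_eq {d : ℤ} (hd : DetOrd F d) {s : ℕ} {r : ℤ}
    (h : Isoc.latImg F s M = Isoc.pPow r M) : r * Module.finrank K(p, k) N = s * d := by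
  refine le_antisymm (mul_le_of_latImg_le hF hM hd h.le) ?_
  by_contra hlt
  push Not at hlt
  haveI := hM
  obtain ⟨n, b, hb⟩ := detOrd_iter F hd s
  let e := (Module.Free.chooseBasis (WittVector p k) M).reindex (Fintype.equivFin _)
  set h₀ := Fintype.card (Module.Free.ChooseBasisIndex (WittVector p k) M)
  let B : Module.Basis (Fin h₀) K(p, k) N := e.extendOfIsLattice K(p, k)
  have hB : ∀ i, B i = (e i : N) := fun i => Module.Basis.extendOfIsLattice_apply _ e i
  have hrk : Module.finrank K(p, k) N = h₀ := by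
    rw [Module.finrank_eq_card_basis B, Fintype.card_fin]
  have hrepr : ∀ (x : M) i, B.repr (x : N) i = algebraMap (WittVector p k) K(p, k) (e.repr x i) := by
    intro x i
    conv_lhs => rw [← e.sum_repr x]
    simp only [Submodule.coe_sum, SetLike.val_smul, ← hB]
    simp only [← algebraMap_smul K(p, k) (e.repr x _), B.repr_sum_self]
  -- preimages of `p^r e_i`
  have hpre : ∀ i, ∃ y : M, (⇑F)^[s] (y : N) = (p : K(p, k)) ^ r • B i := fun i => by
    obtain ⟨y, hy, e'⟩ := (mem_latImg F).1 (h.ge (smul_mem_pPow (hB i ▸ (e i).2)))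
    exact ⟨⟨y, hy⟩, e'⟩
  choose y hy using hpre
  have hmat : mat B (Isoc.iter F s) *
      (Matrix.of fun i j => (τ ^ s) (algebraMap (WittVector p k) K(p, k) (e.repr (y j) i))) =
      (p : K(p, k)) ^ r • (1 : Matrix (Fin h₀) (Fin h₀) K(p, k)) := by
    ext i j
    simp only [Matrix.mul_apply, Matrix.of_apply, ← hrepr, ← repr_apply B (Isoc.iter F s)]
    rw [Isoc.iter_apply, hy j, map_smul]
    simp [Matrix.one_apply, Finsupp.single_apply, eq_comm]
  have hdet := congrArg Matrix.det hmat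
  rw [Matrix.det_mul, Matrix.det_smul, Matrix.det_one, mul_one, Fintype.card_fin,
    ← zpow_natCast, ← zpow_mul] at hdet
  have hD := detOrd_basis B (Isoc.iter F s) (detOrd_iter F hd s)
  rw [detCoeff_eq] at hD
  let Y : Matrix (Fin h₀) (Fin h₀) (WittVector p k) :=
    Matrix.of fun i j => tauW (τ ^ s) (e.repr (y j) i)
  have hY : (Matrix.of fun i j => (τ ^ s) (algebraMap (WittVector p k) K(p, k) (e.repr (y j) i))) =
      Y.map (algebraMap (WittVector p k) K(p, k)) := by ext i j; simp [Y]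
  rw [hY, show (Y.map (algebraMap (WittVector p k) K(p, k))).det =
    algebraMap (WittVector p k) K(p, k) Y.det from (RingHom.map_det _ Y).symm] at hdet
  obtain ⟨u, hu⟩ := hD
  have hYd : algebraMap (WittVector p k) K(p, k) Y.det =
      (p : K(p, k)) ^ (r * h₀ - s * d) * algebraMap (WittVector p k) K(p, k) ((u⁻¹ : (WittVector p k)ˣ) : WittVector p k) := by
    rw [hu] at hdet
    rw [sub_eq_neg_add, zpow_add₀ pL_ne_zero, ← hdet,
      show algebraMap (WittVector p k) K(p, k) ((u⁻¹ : (WittVector p k)ˣ) : WittVector p k) =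
        (algebraMap (WittVector p k) K(p, k) (u : WittVector p k))⁻¹ from
        (inv_eq_of_mul_eq_one_right (by rw [← map_mul, Units.mul_inv, map_one])).symm, zpow_neg]
    have hu0 : algebraMap (WittVector p k) K(p, k) (u : WittVector p k) ≠ 0 :=
      fun e => u.ne_zero (alg_inj.1 (e.trans (map_zero _).symm))
    have hp0 := zpow_ne_zero (s * d) (pL_ne_zero (p := p) (k := k))
    field_simp
  have := unit_zpow_mem hYd.symm
  rw [hrk] at hlt
  omega

variable [Nontrivial N]

lemma finrank_pos' : 0 < Module.finrank K(p, k) N := Module.finrank_pos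

include hF hM in
lemma exists_isOrd (s : ℕ) : ∃ r, Isoc.IsOrd M F s r := by
  obtain ⟨d, hd⟩ := exists_detOrd F hF
  obtain ⟨r, hr, hmax⟩ := Int.exists_greatest_of_bdd
    (P := fun r => Isoc.latImg F s M ≤ Isoc.pPow r M) ⟨max 0 (s * d), fun z hz => by
      have h1 := mul_le_of_latImg_le hF hM hd hz
      have h2 := finrank_pos' (p := p) (k := k) (N := N)
      rcases le_or_gt z 0 with hz0 | hz0
      · exact le_max_of_le_left hz0
      · exact le_max_of_le_right (le_trans (le_mul_of_one_le_right hz0.le (by omega)) h1)⟩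
    (by obtain ⟨c, hc⟩ := exists_le_pPow hM (latImg_fg F s hM.fg)
        exact ⟨_, hc⟩)
  exact ⟨r, hr, fun h => absurd (hmax _ h) (by omega)⟩

lemma le_of_isOrd {s : ℕ} {r r' : ℤ} (h : Isoc.IsOrd M F s r)
    (h' : Isoc.latImg F s M ≤ Isoc.pPow r' M) : r' ≤ r := by
  by_contra hlt
  exact h.2 (h'.trans (pPow_anti (by omega) M))

include hF hM in
lemma isOrd_zero : Isoc.IsOrd M F 0 0 := by
  refine ⟨by rw [latImg_zero, pPow_zero], fun h => ?_⟩
  obtain ⟨d, hd⟩ := exists_detOrd F hF
  have h1 := mul_le_of_latImg_le hF hM hd h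
  have h2 := finrank_pos' (p := p) (k := k) (N := N)
  simp at h1
  omega

include hF hM in
/-- A choice of orders. -/
noncomputable def ordFun (s : ℕ) : ℤ := (exists_isOrd hF hM s).choose

lemma ordFun_spec (s : ℕ) : Isoc.IsOrd M F s (ordFun hF hM s) := (exists_isOrd hF hM s).choose_spec

lemma ordFun_eq {s : ℕ} {r : ℤ} (h : Isoc.IsOrd M F s r) : ordFun hF hM s = r :=
  le_antisymm (le_of_isOrd h (ordFun_spec hF hM s).1) (le_of_isOrd (ordFun_spec hF hM s) h.1)

lemma le_ordFun {s : ℕ} {r : ℤ} (h : Isoc.latImg F s M ≤ Isoc.pPow r M) : r ≤ ordFun hF hM s :=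
  le_of_isOrd (ordFun_spec hF hM s) h

lemma ordFun_add (s t : ℕ) : ordFun hF hM s + ordFun hF hM t ≤ ordFun hF hM (s + t) := by
  refine le_ordFun hF hM ?_
  rw [← latImg_latImg]
  refine (latImg_mono F (ordFun_spec hF hM t).1).trans ?_
  rw [latImg_pPow, add_comm, ← pPow_pPow]
  exact pPow_mono (ordFun_spec hF hM s).1

lemma mul_ordFun_le (s j : ℕ) : (j : ℤ) * ordFun hF hM s ≤ ordFun hF hM (j * s) := by
  induction j with
  | zero => simp [ordFun_eq hF hM (isOrd_zero hF hM)]
  | succ j ih =>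
    rw [Nat.succ_mul, Nat.cast_succ, add_mul, one_mul]
    exact (add_le_add ih le_rfl).trans (ordFun_add hF hM (j * s) s)

lemma ordFun_bound {d : ℤ} (hd : DetOrd F d) (s : ℕ) :
    ordFun hF hM s * Module.finrank K(p, k) N ≤ s * d :=
  mul_le_of_latImg_le hF hM hd (ordFun_spec hF hM s).1

lemma exists_tendsto_ordFun :
    ∃ lam : ℝ, Tendsto (fun n : ℕ => (ordFun hF hM n : ℝ) / n) atTop (𝓝 lam) := by
  obtain ⟨d, hd⟩ := exists_detOrd F hF
  have hsub : Subadditive fun n => -(ordFun hF hM n : ℝ) := fun m n => by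
    have : (ordFun hF hM m : ℝ) + ordFun hF hM n ≤ ordFun hF hM (m + n) := by
      exact_mod_cast ordFun_add hF hM m n
    linarith
  have hh : (0 : ℝ) < Module.finrank K(p, k) N := Nat.cast_pos.2 (finrank_pos' (p := p) (k := k))
  refine ⟨-hsub.lim, ?_⟩
  have hlim := hsub.tendsto_lim ⟨min 0 (-(d : ℝ) / Module.finrank K(p, k) N), ?_⟩
  · refine (hlim.neg).congr fun n => ?_
    rw [neg_div, neg_neg]
  rintro _ ⟨n, rfl⟩
  rcases Nat.eq_zero_or_pos n with rfl | hn
  · simp
  refine min_le_of_right_le ?_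
  have hb : (ordFun hF hM n : ℝ) * Module.finrank K(p, k) N ≤ n * d := by
    exact_mod_cast ordFun_bound hF hM hd n
  show -(d : ℝ) / _ ≤ -(ordFun hF hM n : ℝ) / n
  rw [div_le_div_iff₀ hh (Nat.cast_pos.2 hn)]
  linarith

end Ord

section Slope

variable [Nontrivial N]

/-- The limit does not depend on the lattice. -/
lemma tendsto_ordFun_of_tendsto {M' : Submodule (WittVector p k) N} (hM' : M'.IsLattice K(p, k))
    {lam : ℝ} (h : Tendsto (fun n : ℕ => (ordFun hF hM n : ℝ) / n) atTop (𝓝 lam)) :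
    Tendsto (fun n : ℕ => (ordFun hF hM' n : ℝ) / n) atTop (𝓝 lam) := by
  have key : ∀ {A B : Submodule (WittVector p k) N} (hA : A.IsLattice K(p, k))
      (hB : B.IsLattice K(p, k)), ∃ c : ℕ, ∀ n, ordFun hF hA n - c ≤ ordFun hF hB n := by
    intro A B hA hB
    obtain ⟨c, hc⟩ := exists_le_pPow hA hB.fg
    obtain ⟨e, he⟩ := exists_le_pPow hB hA.fg
    refine ⟨c + e, fun n => le_ordFun hF hB ?_⟩
    refine (latImg_mono F hc).trans ?_
    rw [latImg_pPow]
    refine (pPow_mono ((ordFun_spec hF hA n).1.trans (pPow_mono he))).trans ?_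
    rw [pPow_pPow, pPow_pPow]
    exact pPow_anti (by omega) B
  obtain ⟨c, hc⟩ := key hM hM'
  obtain ⟨e, he⟩ := key hM' hM
  have hc' : Tendsto (fun n : ℕ => (c : ℝ) / n) atTop (𝓝 0) := tendsto_const_div_atTop_nhds_zero_nat _
  have he' : Tendsto (fun n : ℕ => (e : ℝ) / n) atTop (𝓝 0) := tendsto_const_div_atTop_nhds_zero_nat _
  refine tendsto_of_tendsto_of_tendsto_of_le_of_le (by simpa using h.sub hc')
    (by simpa using h.add he') (fun n => ?_) fun n => ?_
  · rw [← sub_div]
    gcongr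
    have h3 := (Int.cast_le (R := ℝ)).2 (hc n)
    push_cast at h3 ⊢
    linarith
  · rw [← add_div]
    gcongr
    have h3 := (Int.cast_le (R := ℝ)).2 (he n)
    push_cast at h3 ⊢
    linarith

end Slope

section

lemma nontrivial_of_isFirstSlope {lam : ℝ} (h : Isoc.IsFirstSlope F lam) : Nontrivial N := by
  obtain ⟨M, hM, o, ho, -⟩ := h
  by_contra hN
  rw [not_nontrivial_iff_subsingleton] at hN
  exact (ho 1 le_rfl).2 fun x hx => by rw [Subsingleton.elim x 0]; exact zero_mem _

variable [Nontrivial N]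

lemma isFirstSlope_of_tendsto {lam : ℝ}
    (h : Tendsto (fun n : ℕ => (ordFun hF hM n : ℝ) / n) atTop (𝓝 lam)) :
    Isoc.IsFirstSlope F lam :=
  ⟨M, hM, ordFun hF hM, fun n _ => ordFun_spec hF hM n, h⟩

include hF hM in
lemma tendsto_of_ords {o : ℕ → ℤ} (ho : ∀ n : ℕ, 1 ≤ n → Isoc.IsOrd M F n (o n)) {lam : ℝ}
    (h : Tendsto (fun n : ℕ => (o n : ℝ) / n) atTop (𝓝 lam)) :
    Tendsto (fun n : ℕ => (ordFun hF hM n : ℝ) / n) atTop (𝓝 lam) :=
  h.congr' ((eventually_ge_atTop 1).mono fun n hn => by dsimp only; rw [ordFun_eq hF hM (ho n hn)])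

lemma slope_tendsto {lam : ℝ} (h : Isoc.IsFirstSlope F lam) :
    Tendsto (fun n : ℕ => (ordFun hF hM n : ℝ) / n) atTop (𝓝 lam) := by
  obtain ⟨M₀, hM₀, o, ho, hl⟩ := h
  exact tendsto_ordFun_of_tendsto hF hM₀ hM (tendsto_of_ords hF hM₀ ho hl)

include hF hM in
lemma div_le_slope {lam : ℝ} (h : Isoc.IsFirstSlope F lam) {s : ℕ} (hs : 0 < s) {r : ℤ}
    (hle : Isoc.latImg F s M ≤ Isoc.pPow r M) : (r : ℝ) / s ≤ lam := by
  have h1 := (slope_tendsto hF hM h).comp (tendsto_id.atTop_mul_const' hs)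
  refine ge_of_tendsto h1 ((eventually_ge_atTop 1).mono fun j hj => ?_)
  simp only [Function.comp_apply, id]
  have h2 : ((j : ℤ) * r : ℤ) ≤ ordFun hF hM (j * s) :=
    le_trans (mul_le_mul_of_nonneg_left (le_ordFun hF hM hle) (Int.natCast_nonneg j))
      (mul_ordFun_le hF hM s j)
  rw [div_le_div_iff₀ (Nat.cast_pos.2 hs) (Nat.cast_pos.2 (Nat.mul_pos hj hs)), Nat.cast_mul]
  have h3 : ((j : ℝ) * r) ≤ (ordFun hF hM (j * s) : ℝ) := by exact_mod_cast h2
  nlinarith [(Nat.cast_nonneg s : (0 : ℝ) ≤ s)]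

include hF hM in
lemma slope_mul_le {lam : ℝ} (h : Isoc.IsFirstSlope F lam) {d : ℤ} (hd : DetOrd F d) :
    lam * Module.finrank K(p, k) N ≤ d := by
  refine le_of_tendsto ((slope_tendsto hF hM h).mul_const _)
    ((eventually_ge_atTop 1).mono fun n hn => ?_)
  have hb : (ordFun hF hM n : ℝ) * Module.finrank K(p, k) N ≤ n * d := by
    exact_mod_cast ordFun_bound hF hM hd n
  rw [div_mul_eq_mul_div, div_le_iff₀ (Nat.cast_pos.2 hn)]
  linarith

include hF in
lemma isFirstSlope_twist {lam : ℝ} (h : Isoc.IsFirstSlope F lam) (m : ℤ) (n : ℕ) :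
    Isoc.IsFirstSlope (twist F m n) (n * lam + m) := by
  obtain ⟨M₀, hM₀, -⟩ := id h
  have key : ∀ j, ordFun (twist_bijective F hF m n) hM₀ j = m * j + ordFun hF hM₀ (n * j) := by
    intro j
    refine ordFun_eq _ _ ⟨?_, fun hle => (ordFun_spec hF hM₀ (n * j)).2 ?_⟩
    · rw [latImg_twist, ← pPow_pPow]
      exact pPow_mono (ordFun_spec hF hM₀ _).1
    · rw [latImg_twist, add_assoc, ← pPow_pPow] at hle
      exact pPow_le_pPow_iff.1 hle
  refine isFirstSlope_of_tendsto (twist_bijective F hF m n) hM₀ ?_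
  rcases Nat.eq_zero_or_pos n with rfl | hn
  · refine tendsto_const_nhds.congr' ((eventually_ge_atTop 1).mono fun j hj => ?_)
    have hj' : (j : ℝ) ≠ 0 := by positivity
    simp [key, ordFun_eq hF hM₀ (isOrd_zero hF hM₀), hj']
  · have h2 := (((slope_tendsto hF hM₀ h).comp
      (tendsto_id.const_mul_atTop' hn)).const_mul (n : ℝ)).add_const (m : ℝ)
    refine h2.congr' ((eventually_ge_atTop 1).mono fun j hj => ?_)
    have hj' : (j : ℝ) ≠ 0 := by positivity
    have hn' : (n : ℝ) ≠ 0 := by positivity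
    simp only [Function.comp_apply, id, key]
    push_cast
    field_simp
    ring

end

end Groth.Agent.IsocLib
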