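import Groth.Agent.IsocLib.Decomp
import Mathlib.Algebra.DirectSum.Module

/-!
Existence of the slope decomposition.
-/

set_option autoImplicit false
set_option linter.style.haveILetI false
set_option linter.unusedSectionVars false

open scoped Isocrystal Pointwise Topology
open Filter

universe u v

namespace Groth.Agent.IsocLib

variable {p : ℕ} [hp : Fact p.Prime] {k : Type u} [Field k] [CharP k p] [PerfectRing k p]
variable {τ : K(p, k) →+* K(p, k)} [WPres τ]
variable {N : Type v} [AddCommGroup N] [Module (WittVector p k) N] [Module K(p, k) N]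
  [IsScalarTower (WittVector p k) K(p, k) N] [Module.Finite K(p, k) N]

lemma twist_commute (F : N →ₛₗ[τ] N) (m : ℤ) (s n : ℕ) (y : N) :
    (⇑(twist F m s))^[n] (F y) = F ((⇑(twist F m s))^[n] y) := by
  rw [twist_iterate, twist_iterate, LinearMap.map_smulₛₗ, tau_p]
  congr 1
  exact (Function.iterate_succ_apply F (s * n) y).symm.trans (Function.iterate_succ_apply' F (s * n) y)

lemma exists_split {F : N →ₛₗ[τ] N} (hF : Function.Bijective F) [Nontrivial N] :
    ∃ (μ : ℚ) (P Q : Submodule K(p, k) N),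
      IsoSub F P μ ∧ (∀ x ∈ Q, F x ∈ Q) ∧ P ⊔ Q = ⊤ ∧ Q ≠ ⊤ := by
  haveI := (inferInstance : Module.Finite K(p, k) N)
  obtain ⟨M₀, hM₀⟩ : ∃ M : Submodule (WittVector p k) N, M.IsLattice K(p, k) := by
    let B := Module.finBasis K(p, k) N
    refine ⟨Submodule.span (WittVector p k) (Set.range B), Submodule.fg_span (Set.finite_range B), ?_⟩
    rw [Submodule.span_span_of_tower, B.span_eq]
  obtain ⟨lam, hlam⟩ := exists_tendsto_ordFun hF hM₀
  have hS := isFirstSlope_of_tendsto hF hM₀ hlam
  obtain ⟨r, s, M, hs, -, hl, hM, hord⟩ := exists_slope_eq hF hS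
  set G := twist F (-r) s with hGdef
  have hG : Function.Bijective G := twist_bijective F hF (-r) s
  have hGM : Isoc.latImg G 1 M ≤ M := by
    rw [hGdef, latImg_twist, Nat.cast_one, mul_one, mul_one, ← pPow_le_pPow_iff (r := r), pPow_pPow,
      add_neg_cancel, pPow_zero]
    exact hord.1
  have hG0 : Isoc.IsFirstSlope G 0 := by
    have h := isFirstSlope_twist hF hS (-r) s
    rwa [hl, mul_div_cancel₀ _ (Nat.cast_ne_zero.2 hs.ne'), Int.cast_neg, add_neg_cancel] at h
  obtain ⟨e, he⟩ := exists_le_pPow hM (latImg_fg F 1 hM.fg)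
  have hFM : ∀ y ∈ M, (p : K(p, k)) ^ (e : ℤ) • F y ∈ M := fun y hy => by
    have := mem_pPow.1 (he (apply_mem_latImg F (s := 1) hy))
    rwa [neg_neg] at this
  set M₁ := unitPart G M with hM₁
  refine ⟨(r : ℚ) / s, Submodule.span K(p, k) (M₁ : Set N), nilPart G M,
    ⟨?_, M₁, fg_of_le hM.fg unitPart_le, rfl, r, s, hs, rfl, ?_⟩, ?_, ?_, nilPart_ne_top hG hM hG0⟩
  · have hgen : ∀ x ∈ M₁, (p : K(p, k)) ^ (e : ℤ) • F x ∈ M₁ := fun x hx =>
      (Submodule.mem_iInf _).2 fun n => by
        obtain ⟨y, hy, rfl⟩ := (mem_latImg G).1 ((Submodule.mem_iInf _).1 hx n)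
        refine (mem_latImg G).2 ⟨(p : K(p, k)) ^ (e : ℤ) • F y, hFM y hy, ?_⟩
        rw [iterate_smul_zpow, twist_commute]
    intro x hx
    induction hx using Submodule.span_induction with
    | mem x hx =>
      have := (Submodule.span K(p, k) (M₁ : Set N)).smul_mem ((p : K(p, k)) ^ (-(e : ℤ)))
        (Submodule.subset_span (hgen x hx))
      rwa [smul_smul, ← zpow_add₀ pL_ne_zero, neg_add_cancel, zpow_zero, one_smul] at this
    | zero => rw [map_zero]; exact zero_mem _
    | add x y _ _ hx hy => rw [map_add]; exact add_mem hx hy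
    | smul l x _ hx => rw [LinearMap.map_smulₛₗ]; exact Submodule.smul_mem _ _ hx
  · have h := latImg_unitPart hG hGM
    rw [hGdef, latImg_twist, Nat.cast_one, mul_one, mul_one] at h
    have h' := congrArg (Isoc.pPow r) h
    rwa [pPow_pPow, add_neg_cancel, pPow_zero] at h'
  · intro x hx j
    obtain ⟨n₀, hn₀⟩ := hx (j + e)
    refine ⟨n₀, fun n hn => ?_⟩
    rw [twist_commute]
    have h := mem_pPow.1 (hn₀ n hn)
    have h' := hFM _ h
    rw [LinearMap.map_smulₛₗ, tau_p, smul_smul, ← zpow_add₀ pL_ne_zero,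
      show (e : ℤ) + -(j + e) = -j by ring] at h'
    exact mem_pPow.2 h'
  · rw [eq_top_iff, ← hM.span_eq_top, Submodule.span_le]
    intro x hx
    obtain ⟨a, ha, hxa⟩ := mem_sup_nilPart hG hM hGM hx
    rw [← add_sub_cancel a x]
    exact Submodule.add_mem_sup (Submodule.subset_span ha) hxa

theorem iSup_slopePart {F : N →ₛₗ[τ] N} (hF : Function.Bijective F) :
    ⨆ μ, Isoc.slopePart F μ = ⊤ := by
  rw [eq_top_iff]
  suffices ∀ (m : ℕ) (X : Submodule K(p, k) N), (∀ x ∈ X, F x ∈ X) →
      Module.finrank K(p, k) X ≤ m → X ≤ ⨆ μ, Isoc.slopePart F μ from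
    this (Module.finrank K(p, k) N) ⊤ (fun _ _ => trivial) (Submodule.finrank_le _)
  intro m
  induction m with
  | zero =>
    intro X _ hm
    rw [Submodule.finrank_eq_zero.1 (Nat.le_zero.1 hm)]
    exact bot_le
  | succ m ih =>
    intro X hX hm
    rcases subsingleton_or_nontrivial X with hX0 | hX0
    · rw [Submodule.eq_bot_of_subsingleton (p := X)]; exact bot_le
    obtain ⟨μ, P, Q, hP, hQ, hsup, hQtop⟩ := exists_split (restrict_bijective hF hX)
    have hP' := hP.map (F' := F) X.subtype fun x => rfl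
    have hQ' : Q.map X.subtype ≤ ⨆ μ, Isoc.slopePart F μ := by
      refine ih _ ?_ ?_
      · rintro _ ⟨x, hx, rfl⟩
        exact ⟨_, hQ x hx, rfl⟩
      · have h1 := Submodule.finrank_lt (lt_top_iff_ne_top.2 hQtop).ne
        rw [← (Submodule.equivMapOfInjective X.subtype Subtype.val_injective Q).finrank_eq]
        omega
    calc X = (P ⊔ Q).map X.subtype := by rw [hsup, Submodule.map_top, Submodule.range_subtype]
      _ ≤ _ := by
        rw [Submodule.map_sup]
        exact sup_le (((slopePart_isoSub hF μ).2 _ hP').trans (le_iSup (Isoc.slopePart F) μ)) hQ'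

theorem isInternal_slopePart {F : N →ₛₗ[τ] N} (hF : Function.Bijective F) :
    DirectSum.IsInternal (fun μ : ℚ => Isoc.slopePart F μ) :=
  DirectSum.isInternal_submodule_of_iSupIndep_of_iSup_eq_top (iSupIndep_slopePart hF)
    (iSup_slopePart hF)

end Groth.Agent.IsocLib
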