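import Groth.Agent.IsocLib.Split
import Mathlib.RingTheory.Coprime.Lemmas

/-!
The standard isocrystals.
-/

set_option autoImplicit false
set_option linter.style.haveILetI false
set_option linter.unusedSectionVars false

open scoped Isocrystal Pointwise

universe u v

namespace Groth.Agent.IsocLib

variable {p : ℕ} [hp : Fact p.Prime] {k : Type u} [Field k] [CharP k p] [PerfectRing k p]
variable {τ : K(p, k) →+* K(p, k)} [WPres τ] {d : ℤ}

lemma std_bijective {h : ℕ} : Function.Bijective (Isoc.stdIsoc τ d h) := by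
  refine bijective_of_injective _ ((injective_iff_map_eq_zero _).2 fun x hx => funext fun j => ?_)
  have h1 := congrFun hx (finRotate h j)
  rw [Isoc.stdIsoc_apply, Equiv.symm_apply_apply, Pi.zero_apply, mul_eq_zero] at h1
  refine (map_eq_zero τ).1 (h1.resolve_left ?_)
  split_ifs
  · exact zpow_ne_zero _ pL_ne_zero
  · exact one_ne_zero

lemma std_single {n : ℕ} (j : Fin (n + 1)) :
    Isoc.stdIsoc τ d (n + 1) (Pi.single j 1) =
      (if (finRotate (n + 1) j).val = 0 then (p : K(p, k)) ^ d else 1) •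
        Pi.single (finRotate (n + 1) j) 1 := by
  funext i
  rw [Isoc.stdIsoc_apply, Pi.smul_apply, smul_eq_mul]
  rcases eq_or_ne i (finRotate (n + 1) j) with rfl | hi
  · rw [Equiv.symm_apply_apply, Pi.single_eq_same, Pi.single_eq_same, map_one]
  · rw [Pi.single_eq_of_ne hi, Pi.single_eq_of_ne, map_zero, mul_zero, mul_zero]
    exact fun e => hi (by rw [← e, Equiv.apply_symm_apply])

lemma std_iterate_zero {n : ℕ} (i : ℕ) (hi : i ≤ n) :
    (⇑(Isoc.stdIsoc τ d (n + 1)))^[i] (Pi.single (0 : Fin (n + 1)) (1 : K(p, k))) =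
      Pi.single (⟨i, by omega⟩ : Fin (n + 1)) 1 := by
  induction i with
  | zero => rfl
  | succ i ih =>
    rw [Function.iterate_succ_apply', ih (by omega), std_single]
    have : finRotate (n + 1) (⟨i, by omega⟩ : Fin (n + 1)) = ⟨i + 1, by omega⟩ :=
      finRotate_of_lt (by omega)
    rw [this, if_neg (by simp), one_smul]

lemma std_iterate_height {n : ℕ} (j : Fin (n + 1)) :
    (⇑(Isoc.stdIsoc τ d (n + 1)))^[n + 1] (Pi.single j (1 : K(p, k))) =
      (p : K(p, k)) ^ d • Pi.single j 1 := by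
  have h0 : (⇑(Isoc.stdIsoc τ d (n + 1)))^[n + 1] (Pi.single (0 : Fin (n + 1)) (1 : K(p, k))) =
      (p : K(p, k)) ^ d • Pi.single 0 1 := by
    rw [Function.iterate_succ_apply', std_iterate_zero n le_rfl, std_single, finRotate_last']
    simp
  have hj := std_iterate_zero (τ := τ) (d := d) (n := n) j.val (by omega)
  rw [Fin.eta] at hj
  rw [← hj, Function.Commute.iterate_iterate_self _ (n + 1) j.val _, h0, iterate_smul_zpow]

lemma std_apply_sum {n : ℕ} (v : Fin (n + 1) → K(p, k)) :
    v = ∑ i, v i • Pi.single i (1 : K(p, k)) := by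
  conv_lhs => rw [← (Pi.basisFun K(p, k) (Fin (n + 1))).sum_repr v]
  simp


lemma std_isIsoclinic {h : ℕ} (hh : 0 < h) :
    Isoc.IsIsoclinic (Isoc.stdIsoc τ d h) ((d : ℚ) / h) := by
  obtain ⟨n, rfl⟩ : ∃ n, h = n + 1 := ⟨h - 1, by omega⟩
  refine ⟨Submodule.span (WittVector p k) (Set.range fun i : Fin (n + 1) => Pi.single i (1 : K(p, k))),
    ⟨Submodule.fg_span (Set.finite_range _), ?_⟩, d, n + 1, Nat.succ_pos _, rfl, ?_⟩
  · rw [Submodule.span_span_of_tower]
    refine eq_top_iff.2 fun v _ => ?_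
    rw [std_apply_sum v]
    exact Submodule.sum_mem _ fun i _ => Submodule.smul_mem _ _ (Submodule.subset_span ⟨i, rfl⟩)
  · refine le_antisymm ((latImg_le_iff _).2 fun x hx => ?_) fun x hx => ?_
    · induction hx using Submodule.span_induction with
      | mem x hx =>
        obtain ⟨i, rfl⟩ := hx
        rw [std_iterate_height]
        exact smul_mem_pPow (Submodule.subset_span ⟨i, rfl⟩)
      | zero =>
        rw [show (⇑(Isoc.stdIsoc τ d (n + 1)))^[n + 1] 0 = 0 from
          (Isoc.iter (Isoc.stdIsoc τ d (n + 1)) (n + 1)).map_zero]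
        exact zero_mem _
      | add x y _ _ hx hy =>
        rw [show (⇑(Isoc.stdIsoc τ d (n + 1)))^[n + 1] (x + y) = _ from
          (Isoc.iter (Isoc.stdIsoc τ d (n + 1)) (n + 1)).map_add x y]
        exact add_mem hx hy
      | smul w x _ hx =>
        rw [smul_eq_alg_smul, iterate_smul_alg, tau_alg, algebraMap_smul]
        exact Submodule.smul_mem _ _ hx
    · rw [mem_pPow] at hx
      have hx' : x = (p : K(p, k)) ^ d • ((p : K(p, k)) ^ (-d) • x) := by
        rw [smul_smul, ← zpow_add₀ pL_ne_zero, add_neg_cancel, zpow_zero, one_smul]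
      rw [hx']
      generalize (p : K(p, k)) ^ (-d) • x = y at hx ⊢
      induction hx using Submodule.span_induction with
      | mem x hx =>
        obtain ⟨i, rfl⟩ := hx
        exact std_iterate_height (τ := τ) (d := d) i ▸ apply_mem_latImg _ (Submodule.subset_span ⟨i, rfl⟩)
      | zero => rw [smul_zero]; exact zero_mem _
      | add x y _ _ hx hy => rw [smul_add]; exact add_mem hx hy
      | smul w x _ hx => rw [smul_comm]; exact Submodule.smul_mem _ _ hx

lemma std_detOrd {h : ℕ} (hh : 0 < h) : DetOrd (Isoc.stdIsoc τ d h) d := by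
  haveI : Nonempty (Fin h) := ⟨⟨0, hh⟩⟩
  obtain ⟨D, hD⟩ := exists_detOrd (Isoc.stdIsoc τ d h) std_bijective
  have := slope_eq_of_isIsoclinic std_bijective (std_isIsoclinic (τ := τ) (d := d) hh) hD
  rw [Module.finrank_pi, Fintype.card_fin] at this
  have hne : (h : ℚ) ≠ 0 := Nat.cast_ne_zero.2 hh.ne'
  field_simp at this
  have : D = d := by exact_mod_cast this.symm
  exact this ▸ hD

lemma std_stable_eq_bot_or_top {h : ℕ} (hh : 0 < h) (hdh : Int.gcd d h = 1)
    (P : Submodule K(p, k) (Fin h → K(p, k))) (hP : ∀ x ∈ P, Isoc.stdIsoc τ d h x ∈ P) :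
    P = ⊥ ∨ P = ⊤ := by
  refine or_iff_not_imp_left.2 fun hP0 => ?_
  haveI : Nontrivial P := Submodule.nontrivial_iff_ne_bot.2 hP0
  have hbij := restrict_bijective (F := Isoc.stdIsoc τ d h) std_bijective hP
  have hiso : Isoc.IsIsoclinic ((Isoc.stdIsoc τ d h).restrict hP) ((d : ℚ) / h) :=
    ((isoSub_top_iff.2 (std_isIsoclinic hh)).mono std_bijective le_top hP).isIsoclinic
      std_bijective hP
  obtain ⟨D, hD⟩ := exists_detOrd _ hbij
  have hs := slope_eq_of_isIsoclinic hbij hiso hD
  have hh' := finrank_pos' (p := p) (k := k) (N := P)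
  rw [div_eq_div_iff (Nat.cast_ne_zero.2 hh.ne') (Nat.cast_ne_zero.2 hh'.ne')] at hs
  have hs' : d * (Module.finrank K(p, k) P : ℤ) = D * (h : ℤ) := by exact_mod_cast hs
  have hdvd : (h : ℤ) ∣ (Module.finrank K(p, k) P : ℤ) :=
    ((Int.isCoprime_iff_gcd_eq_one.2 hdh).symm).dvd_of_dvd_mul_left ⟨D, by rw [hs', mul_comm]⟩
  have hle : h ≤ Module.finrank K(p, k) P := Nat.le_of_dvd hh' (by exact_mod_cast hdvd)
  refine Submodule.eq_top_of_finrank_eq (le_antisymm (Submodule.finrank_le P) ?_)
  rw [Module.finrank_pi, Fintype.card_fin]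
  exact hle

end Groth.Agent.IsocLib
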