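import Groth.Agent.IsocLib.Split
import Mathlib.LinearAlgebra.Basis.Prod
import Mathlib.LinearAlgebra.Matrix.Block

/-!
Additivity of the order of the determinant and the end point of the Newton polygon.
-/

set_option autoImplicit false
set_option linter.style.haveILetI false
set_option linter.unusedSectionVars false

open scoped Isocrystal Pointwise

universe u v w

namespace Groth.Agent.IsocLib

variable {p : ℕ} [hp : Fact p.Prime] {k : Type u} [Field k] [CharP k p] [PerfectRing k p]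
variable {τ : K(p, k) →+* K(p, k)} [WPres τ]
variable {N : Type v} [AddCommGroup N] [Module (WittVector p k) N] [Module K(p, k) N]
  [IsScalarTower (WittVector p k) K(p, k) N] [Module.Finite K(p, k) N]

lemma detOrd_equiv {N' : Type w} [AddCommGroup N'] [Module K(p, k) N'] {F : N →ₛₗ[τ] N}
    {F' : N' →ₛₗ[τ] N'} (e : N ≃ₗ[K(p, k)] N') (he : ∀ x, e (F x) = F' (e x)) {d : ℤ}
    (hd : DetOrd F d) : DetOrd F' d := by
  obtain ⟨n, b, hb⟩ := hd
  refine ⟨n, b.map e, ?_⟩
  rw [show Isoc.detCoeff (b.map e) F' = Isoc.detCoeff b F from ?_]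
  · exact hb
  rw [detCoeff_eq, detCoeff_eq]
  congr 1
  ext i j
  simp [mat, ← he]

lemma detOrd_zero_of_finrank {F : N →ₛₗ[τ] N} (h : Module.finrank K(p, k) N = 0) {d : ℤ}
    (hd : DetOrd F d) : d = 0 := by
  obtain ⟨n, b, hb⟩ := hd
  have hn : n = 0 := by
    rw [← h, Module.finrank_eq_card_basis b, Fintype.card_fin]
  subst hn
  rw [detCoeff_eq, Matrix.det_isEmpty] at hb
  exact isOrdP_unique hb (by simpa using isOrdP_zpow (p := p) (k := k) 0)

lemma detOrd_prod {N₁ : Type w} [AddCommGroup N₁] [Module K(p, k) N₁] {N₂ : Type w}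
    [AddCommGroup N₂] [Module K(p, k) N₂] {F : N →ₛₗ[τ] N} {F₁ : N₁ →ₛₗ[τ] N₁} {F₂ : N₂ →ₛₗ[τ] N₂}
    (e : (N₁ × N₂) ≃ₗ[K(p, k)] N) (he : ∀ x y, F (e (x, y)) = e (F₁ x, F₂ y))
    {d₁ d₂ : ℤ} (h₁ : DetOrd F₁ d₁) (h₂ : DetOrd F₂ d₂) : DetOrd F (d₁ + d₂) := by
  obtain ⟨n₁, b₁, hb₁⟩ := h₁
  obtain ⟨n₂, b₂, hb₂⟩ := h₂
  refine ⟨n₁ + n₂, ((b₁.prod b₂).map e).reindex finSumFinEquiv, ?_⟩
  have hmat : mat (((b₁.prod b₂).map e).reindex finSumFinEquiv) F =
      (Matrix.fromBlocks (mat b₁ F₁) 0 0 (mat b₂ F₂)).submatrix finSumFinEquiv.symm finSumFinEquiv.symm := by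
    ext i j
    obtain ⟨i, rfl⟩ := finSumFinEquiv.surjective i
    obtain ⟨j, rfl⟩ := finSumFinEquiv.surjective j
    rcases i with i | i <;> rcases j with j | j <;>
      simp [mat, Module.Basis.prod_apply, he, Module.Basis.prod_repr_inl,
        Module.Basis.prod_repr_inr]
  rw [detCoeff_eq, hmat, Matrix.det_submatrix_equiv_self, Matrix.det_fromBlocks_zero₁₂]
  exact isOrdP_mul hb₁ hb₂

lemma mul_finrank_eq_of_isIsoclinic {F : N →ₛₗ[τ] N} (hF : Function.Bijective F) {μ : ℚ}
    (h : Isoc.IsIsoclinic F μ) {d : ℤ} (hd : DetOrd F d) :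
    μ * (Module.finrank K(p, k) N : ℚ) = d := by
  rcases Nat.eq_zero_or_pos (Module.finrank K(p, k) N) with h0 | h0
  · rw [h0, detOrd_zero_of_finrank h0 hd]; simp
  · haveI : Nontrivial N := Module.nontrivial_of_finrank_pos h0
    rw [slope_eq_of_isIsoclinic hF h hd, div_mul_cancel₀ _ (Nat.cast_ne_zero.2 h0.ne')]

theorem detOrd_eq_sum {F : N →ₛₗ[τ] N} (hF : Function.Bijective F) (s : Finset ℚ) :
    ∀ (X : Submodule K(p, k) N), X = s.sup (Isoc.slopePart F) → ∀ (hX : ∀ x ∈ X, F x ∈ X) (D : ℤ),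
      DetOrd (F.restrict hX) D → ∑ μ ∈ s, μ * (Isoc.newtonMult F μ : ℚ) = D := by
  classical
  induction s using Finset.induction_on with
  | empty =>
    intro X hXe hX D hD
    rw [Finset.sup_empty] at hXe
    subst hXe
    have h0 : D = 0 := detOrd_zero_of_finrank (F := F.restrict hX) (finrank_bot K(p, k) N) hD
    rw [Finset.sum_empty, h0, Int.cast_zero]
  | insert ν s hν ih =>
    intro X hXe hX D hD
    rw [Finset.sup_insert] at hXe
    set P := Isoc.slopePart F ν
    set R := s.sup (Isoc.slopePart F) with hR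
    have hP := (slopePart_isoSub hF ν).1
    have hRs : ∀ x ∈ R, F x ∈ R := by
      intro x hx
      have h1 : R = ⨆ μ ∈ s, Isoc.slopePart F μ := by rw [hR, Finset.sup_eq_iSup]
      rw [h1] at hx ⊢
      refine Submodule.iSup_induction (motive := fun x => F x ∈ ⨆ μ ∈ s, Isoc.slopePart F μ) _ hx
        (fun μ y hy => ?_) ?_ (fun y z hy hz => ?_)
      · by_cases hμ : μ ∈ s
        · rw [iSup_pos hμ] at hy
          exact Submodule.mem_iSup_of_mem μ (Submodule.mem_iSup_of_mem hμ ((slopePart_isoSub hF μ).1.1 y hy))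
        · rw [iSup_neg hμ, Submodule.mem_bot] at hy
          rw [hy, map_zero]; exact zero_mem _
      · rw [map_zero]; exact zero_mem _
      · rw [map_add]; exact add_mem hy hz
    obtain ⟨D₁, hD₁⟩ := exists_detOrd (F.restrict hP.1) (restrict_bijective hF hP.1)
    obtain ⟨D₂, hD₂⟩ := exists_detOrd (F.restrict hRs) (restrict_bijective hF hRs)
    let f : (P × R) →ₗ[K(p, k)] X :=
      ((P.subtype.coprod R.subtype).codRestrict X fun x => by
        rw [hXe]; exact Submodule.add_mem_sup x.1.2 x.2.2)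
    have hdisj : Disjoint P R := disjoint_slopePart hF ν s hν
    have hf : Function.Bijective f := by
      refine ⟨(injective_iff_map_eq_zero f).2 fun x hx => ?_, fun x => ?_⟩
      · have h0 : (x.1 : N) + x.2 = 0 := congrArg Subtype.val hx
        have h1 : (x.1 : N) = 0 := Submodule.disjoint_def.1 hdisj _ x.1.2
          (by rw [eq_neg_of_add_eq_zero_left h0]; exact R.neg_mem x.2.2)
        rw [h1, zero_add] at h0
        exact Prod.ext (Subtype.ext h1) (Subtype.ext h0)
      · obtain ⟨y, hy, z, hz, e⟩ := Submodule.mem_sup.1 (show (x : N) ∈ P ⊔ R by rw [← hXe]; exact x.2)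
        exact ⟨(⟨y, hy⟩, ⟨z, hz⟩), Subtype.ext e⟩
    have hsum := detOrd_prod (F := F.restrict hX) (F₁ := F.restrict hP.1) (F₂ := F.restrict hRs)
      (LinearEquiv.ofBijective f hf)
      (fun x y => Subtype.ext (map_add F _ _)) hD₁ hD₂
    rw [Finset.sum_insert hν, ih R rfl hRs D₂ hD₂, detOrd_unique _ hD hsum, Int.cast_add]
    congr 1
    exact mul_finrank_eq_of_isIsoclinic (restrict_bijective hF hP.1) (hP.isIsoclinic hF hP.1) hD₁

theorem finsum_newtonMult {F : N →ₛₗ[τ] N} (hF : Function.Bijective F) {d : ℤ} (hd : DetOrd F d) :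
    ∑ᶠ μ : ℚ, μ * (Isoc.newtonMult F μ : ℚ) = d := by
  classical
  have hfin := WellFoundedGT.finite_ne_bot_of_iSupIndep (iSupIndep_slopePart hF)
  have hsup : (⊤ : Submodule K(p, k) N) = hfin.toFinset.sup (Isoc.slopePart F) := by
    refine le_antisymm ?_ le_top
    rw [← iSup_slopePart hF]
    refine iSup_le fun μ => ?_
    by_cases h : Isoc.slopePart F μ = ⊥
    · rw [h]; exact bot_le
    · exact Finset.le_sup (hfin.mem_toFinset.2 h)
  have hD : DetOrd (F.restrict (p := (⊤ : Submodule K(p, k) N)) (q := ⊤) fun _ _ => trivial) d :=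
    detOrd_equiv Submodule.topEquiv.symm (fun x => rfl) hd
  rw [← detOrd_eq_sum hF hfin.toFinset ⊤ hsup _ d hD]
  refine finsum_eq_sum_of_support_subset _ fun μ hμ => ?_
  simp only [Set.Finite.coe_toFinset]
  intro h
  apply hμ
  have : Isoc.newtonMult F μ = 0 := by
    rw [Isoc.newtonMult, show Isoc.slopePart F μ = ⊥ from h, finrank_bot]
  simp [this]

end Groth.Agent.IsocLib
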